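/-
General lemmas for the recognition of rank 3 permutation groups through amalgams.
-/
import Cfsg.Agent.Lib.Comp.Subst2
import Cfsg.Agent.Lib.Golay.Chain
import Cfsg.Prelude.Def_KGroupFacts

set_option autoImplicit false

namespace Cfsg.Lib.Rk3

open Subgroup MulAction Cfsg.Lib.Comp

section
variable {G Ω : Type*} [Group G] [MulAction G Ω]

theorem orbit_cases [Fintype Ω] {A : Subgroup G} {a b c : Ω} {k l : ℕ} (ha : ∀ g ∈ A, g • a = a)
    (hb : (orbit A b).ncard = k) (hc : (orbit A c).ncard = l) (hk : 1 < k) (hl : 1 < l) (hkl : k ≠ l)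
    (hΩ : Fintype.card Ω = 1 + k + l) (x : Ω) : x = a ∨ x ∈ orbit A b ∨ x ∈ orbit A c := by
  have h1 : ∀ y : Ω, 1 < (orbit A y).ncard → a ∉ orbit A y := fun y hy h => by
    rw [← orbit_eq_iff.2 h] at hy
    have : orbit A a ⊆ {a} := by rintro _ ⟨g, rfl⟩; exact ha g g.2
    have := Set.ncard_le_ncard this
    rw [Set.ncard_singleton] at this
    omega
  have h2 : Disjoint (orbit A b) (orbit A c) := Set.disjoint_left.2 fun y p q => hkl (by
    rw [← hb, ← hc, ← orbit_eq_iff.2 p, orbit_eq_iff.2 q])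
  have h3 : insert a (orbit A b ∪ orbit A c) = Set.univ := Set.eq_of_subset_of_ncard_le (Set.subset_univ _) (by
    rw [Set.ncard_insert_of_notMem (fun h => h.elim (h1 b (by omega)) (h1 c (by omega))), Set.ncard_union_eq h2,
      Set.ncard_univ, Nat.card_eq_fintype_card]
    omega)
  exact h3.ge (Set.mem_univ x)

theorem card_stab_conj (g : G) (a b : Ω) :
    Nat.card ↥(stabilizer G (g • a) ⊓ stabilizer G (g • b)) = Nat.card ↥(stabilizer G a ⊓ stabilizer G b) := by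
  rw [stabilizer_smul_eq_stabilizer_map_conj, stabilizer_smul_eq_stabilizer_map_conj,
    ← map_inf _ _ _ (MulAut.conj g).injective, card_map_of_injective (MulAut.conj g).injective]

theorem card_stab_of_mem [Finite G] {a b x : Ω} (h : x ∈ orbit (stabilizer G a) b) :
    Nat.card ↥(stabilizer G a ⊓ stabilizer G x) = Nat.card ↥(stabilizer G a ⊓ stabilizer G b) := by
  obtain ⟨g, rfl⟩ := h
  rw [← card_stab_conj (g : G) a b, show (g : G) • a = a from g.2]; rfl

/-- an element swapping `a` and `b`. -/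
theorem exists_swap [Finite G] [IsPretransitive G Ω] {a b c : Ω}
    (h : ∀ x, x = a ∨ x ∈ orbit (stabilizer G a) b ∨ x ∈ orbit (stabilizer G a) c) (hab : b ≠ a)
    (hne : Nat.card ↥(stabilizer G a ⊓ stabilizer G b) ≠ Nat.card ↥(stabilizer G a ⊓ stabilizer G c)) :
    ∃ t : G, t • a = b ∧ t • b = a := by
  obtain ⟨g, hg⟩ := exists_smul_eq G b a
  rcases h (g • a) with e | ⟨k, e⟩ | e
  · exact (hab (MulAction.injective g (hg.trans e.symm))).elim
  · refine ⟨(k : G)⁻¹ * g, by rw [mul_smul, ← e]; exact inv_smul_smul _ _, ?_⟩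
    rw [mul_smul, hg]; exact (k⁻¹).2
  · refine (hne ?_).elim
    rw [← card_stab_of_mem e, ← card_stab_conj g, hg, inf_comm]

theorem fix_of_small {A N : Subgroup G} [Finite N] {a y : Ω} (ha : ∀ g ∈ A, g • a = a)
    (hN : ∀ g ∈ A, ∀ n ∈ N, g * n * g⁻¹ ∈ N) {n : G} (hn : n ∈ N) (hy : n • a ∈ orbit A y) :
    (orbit A y).ncard ≤ Nat.card N := by
  rw [← orbit_eq_iff.2 hy]
  have : orbit A (n • a) ⊆ Set.range fun m : N => (m : G) • a := by
    rintro _ ⟨g, rfl⟩
    refine ⟨⟨_, hN g g.2 n hn⟩, ?_⟩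
    simp only [mul_smul]
    rw [ha _ (inv_mem g.2)]; rfl
  refine (Set.ncard_le_ncard this (Set.finite_range _)).trans ?_
  rw [← Set.image_univ, ← Set.ncard_univ]
  exact Set.ncard_image_le

end

theorem exists_aut {K G : Type*} [Group K] [Group G] {ψ : K →* G} (hψ : Function.Injective ψ) {t : G}
    (ht : ∀ g, g ∈ ψ.range ↔ t * g * t⁻¹ ∈ ψ.range) : ∃ τ : MulAut K, ∀ k, ψ (τ k) = t * ψ k * t⁻¹ :=
  ⟨MulAut.congr (MonoidHom.ofInjective hψ).symm (ψ.range.normalizerMonoidHom ⟨t, ht⟩), fun _ =>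
    MonoidHom.apply_ofInjective_symm hψ _⟩

theorem out_two {K : Type*} [Group K] (h : Nat.card (Out K) = 2) {σ τ : MulAut K} (hσ : σ ∉ Inn K) (hτ : τ ∉ Inn K) :
    ∃ k, ∀ x, σ x = τ (k * x * k⁻¹) := by
  obtain ⟨k, hk⟩ := (mul_mem_iff_of_index_two (H := Inn K) h (a := τ⁻¹) (b := σ)).2 (by simp [hσ, hτ])
  exact ⟨k, fun x => by
    have := congrArg (fun f => τ (f x)) hk
    simpa using this.symm⟩

/-- a conjugate of a `p`-subgroup lies in any subgroup of index prime to `p`. -/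
theorem exists_conj_le {H : Type*} [Group H] [Finite H] {p : ℕ} [Fact p.Prime] {Q K : Subgroup H} (hQ : IsPGroup p Q)
    (hK : ¬ p ∣ K.index) : ∃ g, ∀ q ∈ Q, g⁻¹ * q * g ∈ K := by
  obtain ⟨x, hx⟩ := hQ.nonempty_fixed_point_of_prime_not_dvd_card (H ⧸ K) hK
  obtain ⟨g, rfl⟩ := QuotientGroup.mk_surjective x
  refine ⟨g, fun q hq => ?_⟩
  have := QuotientGroup.eq.1 (hx ⟨q, hq⟩).symm
  simpa [mul_assoc] using this

/-- a homomorphism from an upper bound on the order of the diagonal group. -/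
theorem hom_of_small {S G : Type*} [Group S] [Group G] {δ : ℕ → S} {γ : ℕ → G} {L : List ℕ} {m : ℕ}
    [Finite (cl (fun x => (δ x, γ x)) L)] (hc : Nat.card (cl (fun x => (δ x, γ x)) L) ≤ m * Nat.card (cl δ L))
    (hN : ∀ N : Subgroup G, Finite N → Nat.card N ≤ m → (∀ g ∈ cl γ L, ∀ n ∈ N, g * n * g⁻¹ ∈ N) → N = ⊥) :
    ∃ f : cl δ L →* G, ∀ x (hx : x ∈ L), f ⟨δ x, mem_cl hx⟩ = γ x := by
  let X := cl (fun x => (δ x, γ x)) L
  let p := (MonoidHom.fst S G).comp X.subtype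
  let q := (MonoidHom.snd S G).comp X.subtype
  have hp : p.range = cl δ L := by
    rw [MonoidHom.range_comp, range_subtype, cl_map]; rfl
  have hq : q.range = cl γ L := by
    rw [MonoidHom.range_comp, range_subtype, cl_map]; rfl
  have h1 : Nat.card X = Nat.card p.ker * Nat.card (cl δ L) := by
    rw [← hp, ← p.ker.card_mul_index, index_ker]
  have h2 : 0 < Nat.card (cl δ L) := Nat.pos_of_mul_pos_left (h1 ▸ Nat.card_pos)
  have h3 : Nat.card p.ker ≤ m := Nat.le_of_mul_le_mul_right (h1 ▸ hc) h2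
  have hf : Finite (p.ker.map q) := (p.ker : Set X).toFinite.image q
  have h4 := hN (p.ker.map q) hf ((Nat.le_of_dvd Nat.card_pos (card_map_dvd _ _)).trans h3) (by
    rw [← hq]
    rintro _ ⟨g, rfl⟩ _ ⟨n, hn, rfl⟩
    exact ⟨g * n * g⁻¹, (MonoidHom.normal_ker p).conj_mem n hn g, by simp⟩)
  have h5 : p.ker = ⊥ := eq_bot_iff.2 fun n hn =>
    Subtype.ext (Prod.ext hn (mem_bot.1 (h4.le ⟨n, hn, rfl⟩)))
  obtain ⟨f, hf⟩ := hom_of_card (γ := δ) (δ := γ) (L := L) (by rw [h1, h5]; simp)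
  exact ⟨f, fun x hx => by simpa only [ev_single] using hf [x] (by simpa using hx)⟩

theorem fix_of_comm {α : Type*} {l g : Equiv.Perm α} (h : Commute l g) {p : α} (hp : g p = p) : g (l p) = l p := by
  rw [← Equiv.Perm.mul_apply, ← h.eq, Equiv.Perm.mul_apply, hp]

theorem commute_ev {Γ : Type*} [Group Γ] {γ : ℕ → Γ} {l : Γ} {w : List ℕ} (h : ∀ x ∈ w, Commute l (γ x)) :
    Commute l (ev γ w) :=
  (mem_centralizer_singleton_iff.1 (ev_mem (H := centralizer {l}) fun x hx =>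
    mem_centralizer_singleton_iff.2 (h x hx).symm)).symm

end Cfsg.Lib.Rk3
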