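/-
Facts on the action of `G₂(4)` on 416 points.
-/
import Cfsg.Agent.Lib.Rank3.Gen
import Cfsg.Agent.Lib.J2.G24
import Cfsg.Agent.Lib.Comp.J2x.Out

set_option autoImplicit false
set_option maxRecDepth 100000

namespace Cfsg.Lib.Rk3.G24

open Subgroup Cfsg.Lib.Comp Cfsg.Lib.Comp.G24x

/-- point images. -/
noncomputable abbrev tb (x p : ℕ) : ℕ := ptInv (nth Net.nil nets x) p

theorem htb : TbA nets tb := tbA_pt nets_ok

theorem wp (w : List ℕ) {p q : ℕ} (h : Nat.beq (wap tb w p) q = true) : (ev (gp nets) w)⁻¹ p = q :=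
  (wap_eq htb w p).symm.trans (beq_tt.1 h)

theorem wn (w : List ℕ) {p q : ℕ} (h : Nat.beq (wap tb w p) q = false) : (ev (gp nets) w)⁻¹ p ≠ q := fun e => by
  rw [← wap_eq htb, ← beq_tt, h] at e; cases e

theorem lt416 {g : Equiv.Perm ℕ} (hg : g ∈ cl (gp nets) L) {p : ℕ} (hp : p < 416) : g p < 416 := by
  have b := simpleB
  simp only [cnd_tt] at b
  exact (fx_of_fxB nets_ok (by norm_num) (by norm_num) b.2.1 hg).lt hp

theorem fixW (W : List (List ℕ)) (F : List ℕ)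
    (h : allN 416 (fun p => cnd (allL W fun w => Nat.beq (wap tb w p) p) (decide (p ∈ F)) true) = true) {p : ℕ}
    (hp : p < 416) (hf : ∀ w ∈ W, (ev (gp nets) w)⁻¹ p = p) : p ∈ F := by
  have := allN_iff.1 h p hp
  rw [allL_iff.2 fun w hw => beq_tt.2 ((wap_eq htb w p).trans (hf w hw))] at this
  simpa [cnd_true] using this

theorem fix4 {p : ℕ} (hp : p < 416) (hf : ∀ x ∈ [1, 2, 3, 4], gp nets x p = p) : p ∈ [0, 1, 2, 3] :=
  fixW ([1, 2, 3, 4].map fun x => [x]) _ (by decide +kernel) hp fun w hw => by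
    obtain ⟨x, hx, rfl⟩ := List.mem_map.1 hw
    rw [ev_single, Equiv.Perm.inv_eq_iff_eq, hf x hx]

theorem mv5 : gp nets 5 3 ≠ 3 := fun e => wn [5] (p := 3) (q := 3) (by decide +kernel) (by
  rw [ev_single, Equiv.Perm.inv_eq_iff_eq, e])

theorem mv6 : gp nets 6 2 ≠ 2 := fun e => wn [6] (p := 2) (q := 2) (by decide +kernel) (by
  rw [ev_single, Equiv.Perm.inv_eq_iff_eq, e])

theorem fx {x p : ℕ} (h : Nat.beq (wap tb [x] p) p = true) : gp nets x p = p := by
  have := wp _ h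
  rwa [ev_single, Equiv.Perm.inv_eq_iff_eq, eq_comm] at this

theorem fix6 {p : ℕ} (hp : p < 416) (hf : ∀ x ∈ [1, 2, 3, 4, 5, 6], gp nets x p = p) : p = 0 ∨ p = 1 := by
  have := fix4 hp fun x hx => hf x (by revert x; decide)
  simp only [List.mem_cons, List.not_mem_nil, or_false] at this
  rcases this with rfl | rfl | rfl | rfl
  · simp
  · simp
  · exact (mv6 (hf 6 (by decide))).elim
  · exact (mv5 (hf 5 (by decide))).elim

theorem le7 : cl (gp nets) [1, 2, 3, 4, 5, 6, 7] ≤ cl (gp nets) L := cl_mono (by decide)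

theorem le6 : cl (gp nets) [1, 2, 3, 4, 5, 6] ≤ cl (gp nets) [1, 2, 3, 4, 5, 6, 7] := cl_mono (by decide)

theorem stab1 : (∀ g ∈ cl (gp nets) [1, 2, 3, 4, 5, 6, 7], g 1 = 1 ↔ g ∈ cl (gp nets) [1, 2, 3, 4, 5, 6]) ∧
    Nat.card (cl (gp nets) [1, 2, 3, 4, 5, 6]) = 6048 := by
  obtain ⟨-, -, a, -, -, b⟩ := (J2.exact24.cons nets_ok).1.cons nets_ok
  rw [J2.stab24.2] at b
  exact ⟨a, by omega⟩

/-- the images of `2` and `3` under an element carrying the fixing letters to fixing letters. -/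
theorem img23 {l : Equiv.Perm ℕ} (hl : l ∈ cl (gp nets) L) (h0 : l 0 = 0 ∧ l 1 = 1 ∨ l 0 = 1 ∧ l 1 = 0)
    (h : ∀ x ∈ [1, 2, 3, 4], Commute l (gp nets x)) : l 2 = 2 ∧ l 3 = 3 ∨ l 2 = 3 ∧ l 3 = 2 := by
  have a := fix4 (lt416 hl (p := 2) (by norm_num)) fun x hx =>
    fix_of_comm (h x hx) (fx (by revert x; decide +kernel))
  have b := fix4 (lt416 hl (p := 3) (by norm_num)) fun x hx =>
    fix_of_comm (h x hx) (fx (by revert x; decide +kernel))
  have c : ∀ {p q}, p ≠ q → l p ≠ l q := fun h => l.injective.ne h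
  have := @c 0 2 (by decide); have := @c 0 3 (by decide); have := @c 1 2 (by decide); have := @c 1 3 (by decide)
  have := @c 2 3 (by decide)
  simp only [List.mem_cons, List.not_mem_nil, or_false] at a b
  omega

theorem no_swap {l : Equiv.Perm ℕ} (hl : l ∈ cl (gp nets) L) (h0 : l 0 = 0) (h1 : l 1 = 1) (h2 : l 2 = 3)
    (h3 : l 3 = 2) : False := by
  obtain ⟨e3, -, a, -⟩ := ((J2.exact24.cons nets_ok).1.cons nets_ok).1.cons nets_ok
  have m : (ev (gp nets) [5, 4, 6, 3, 5, 4, 6])⁻¹ * l ∈ cl (gp nets) [1, 2, 3, 4, 5, 6] :=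
    mul_mem (inv_mem (ev_mem fun x hx => mem_cl (by revert x; decide)))
      ((stab1.1 l ((J2.stab24.1 l hl).1 h0)).1 h1)
  have := ((e3.cons nets_ok).2.2.2.1 _ ((a _ m).1 (by
    rw [Equiv.Perm.mul_apply, h2]; exact wp _ (by decide +kernel)))).2
  rw [Equiv.Perm.mul_apply, h3, wp _ (q := 13) (by decide +kernel)] at this
  omega

theorem cent_one {l : Equiv.Perm ℕ} (hl : l ∈ cl (gp nets) L) (h0 : l 0 = 0)
    (h : ∀ x ∈ [1, 2, 3, 4, 5, 6], Commute l (gp nets x)) : l = 1 := by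
  have h1 : l 1 = 1 := (fix6 (lt416 hl (p := 1) (by norm_num)) fun x hx =>
    fix_of_comm (h x hx) (fx (by revert x; decide +kernel))).resolve_left fun e => by
      simpa using l.injective (e.trans h0.symm)
  obtain ⟨h2, h3⟩ := (img23 hl (Or.inl ⟨h0, h1⟩) fun x hx => h x (by revert x; decide)).resolve_right
    fun e => no_swap hl h0 h1 e.1 e.2
  have f : ∀ (w : List ℕ) (p q : ℕ), cnd (subB w [1, 2, 3, 4, 5, 6]) (cnd (Nat.beq (wap tb w p) p)
      (Nat.beq (wap tb w q) q).not false) false = true → l p ≠ q := fun w p q e e' => by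
    simp only [cnd_tt, Bool.not_eq_true'] at e
    exact wn w e.2.2 (e' ▸ fix_of_comm (commute_ev fun x hx => h x (sub_of_subB e.1 x hx)).inv_right (wp w e.2.1))
  obtain ⟨e1, -, a0, -⟩ := J2.exact24.cons nets_ok
  obtain ⟨e2, -, a1, -⟩ := e1.cons nets_ok
  obtain ⟨e3, -, a2, -⟩ := e2.cons nets_ok
  obtain ⟨e4, -, a3, -⟩ := e3.cons nets_ok
  obtain ⟨e5, -, a4, b4, -⟩ := e4.cons nets_ok
  obtain ⟨e6, -, a5, b5, -⟩ := e5.cons nets_ok
  obtain ⟨e7, -, a6, b6, -⟩ := e6.cons nets_ok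
  obtain ⟨e8, -, a7, b7, -⟩ := e7.cons nets_ok
  have m4 := (a3 l ((a2 l ((a1 l ((a0 l hl).1 h0)).1 h1)).1 h2)).1 h3
  have m5 := (a4 l m4).1 (by
    have := b4 l m4; have := f [1] 17 18 (by decide +kernel); have := f [1] 17 19 (by decide +kernel); omega)
  have m6 := (a5 l m5).1 (by have := b5 l m5; have := f [5] 104 105 (by decide +kernel); omega)
  have m7 := (a6 l m6).1 (by have := b6 l m6; have := f [4, 1, 5, 4] 110 111 (by decide +kernel); omega)
  exact e8.nil nets_ok l ((a7 l m7).1 (by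
    have := b7 l m7; have := f [4, 6, 2, 3, 5] 248 249 (by decide +kernel); omega))

/-- the generators with the extra involution `s`. -/
def V9 : List (List ℕ) := [[], [1], [2], [3], [4], [5], [6], [7], [8], [2, 8, 4, 7, 5, 8, 6, 4, 8, 4, 5, 6, 4]]

theorem V9_sub : allL V9 (fun w => subB w L) = true := by decide +kernel

theorem V9_iv : IvOK (sv (gp nets) V9) iv :=
  siv (J2.exact24.isBase nets_ok) htb (fun _ => mem_cl) V9_sub (by decide +kernel)

theorem s_apply : sv (gp nets) V9 9 0 = 1 ∧ sv (gp nets) V9 9 1 = 0 ∧ sv (gp nets) V9 9 2 = 3 ∧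
    sv (gp nets) V9 9 3 = 2 := by
  rw [show sv (gp nets) V9 9 = _ from (V9_iv.2 9 (by norm_num)).2]
  exact ⟨wp _ (by decide +kernel), wp _ (by decide +kernel), wp _ (by decide +kernel), wp _ (by decide +kernel)⟩

theorem sv_V9 {x : ℕ} (hx : x ∈ L) : sv (gp nets) V9 x = gp nets x := by
  rw [sv, show nth [] V9 x = [x] by revert x; decide +kernel, ev_single]

theorem no_cent {y : Equiv.Perm ℕ} (hy : y ∈ cl (gp nets) L) (h0 : y 0 = 1) (h1 : y 1 = 0)
    (h : ∀ x ∈ [1, 2, 3, 4, 5, 6], Commute y (gp nets x)) : False := by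
  obtain ⟨h2, h3⟩ := (img23 hy (Or.inr ⟨h0, h1⟩) fun x hx => h x (by revert x; decide)).resolve_right fun e =>
    mv5 (e.1 ▸ fix_of_comm (h 5 (by decide)) (fx (by decide +kernel)))
  obtain ⟨a, b, c, d⟩ := s_apply
  refine no_swap (mul_mem (sv_mem (fun _ => mem_cl) V9_sub 9) hy) ?_ ?_ ?_ ?_ <;>
    simp only [Equiv.Perm.mul_apply, *]

/-- the outer automorphism of the point stabiliser on the generators. -/
def Vo : List (List ℕ) := [[], [1], [2], [3], [4], [6], [5], [6, 5, 7, 5, 6]]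

theorem equivK : Nonempty (J2.pc.gen J2.gs ≃* cl (gp nets) [1, 2, 3, 4, 5, 6, 7]) := by
  obtain ⟨Φ, h1, h2, -⟩ := J2.hom24
  exact ⟨(MonoidHom.ofInjective h1).trans (MulEquiv.subgroupCongr h2)⟩

theorem out_K : Nat.card (Out (cl (gp nets) [1, 2, 3, 4, 5, 6, 7])) = 2 := by
  obtain ⟨e⟩ := equivK
  obtain ⟨e1, -⟩ := J2.equiv
  obtain ⟨e2, -⟩ := J2.equiv100
  exact J2x.out_eq ((e.symm.trans e2.symm).trans e1)

theorem exists_outer : ∃ σ : MulAut (cl (gp nets) [1, 2, 3, 4, 5, 6, 7]), σ ∉ Inn _ ∧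
    ∀ x (hx : x ∈ [1, 2, 3, 4, 5, 6, 7]), (σ ⟨_, mem_cl hx⟩ : Equiv.Perm ℕ) = sv (gp nets) Vo x := by
  obtain ⟨e⟩ := equivK
  obtain ⟨e2, -⟩ := J2.equiv100
  have := J2.simple_J2
  have hV : allL Vo (fun w => subB w [1, 2, 3, 4, 5, 6, 7]) = true := by decide +kernel
  have hB := (J2.exact24.isBase nets_ok).mono le7
  obtain ⟨f, hf⟩ := embed_of_rels (e2.trans e).symm.isSimpleGroup nets_iv (nets_rel.mono (by decide +kernel)) T1_ord
    J2.stab24.2.ge (siv hB htb (fun _ => mem_cl) hV (by decide +kernel))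
    (srels hB htb (fun _ => mem_cl) hV (by decide +kernel)) (x := 5) (by decide) (sv_ne (p := 2) htb (by decide +kernel))
  have := nets_ok.finite [1, 2, 3, 4, 5, 6, 7]
  have hc : cl (sv (gp nets) Vo) [1, 2, 3, 4, 5, 6, 7] = cl (gp nets) [1, 2, 3, 4, 5, 6, 7] :=
    eq_of_le_of_card_ge (cl_le.2 fun x _ => sv_mem (fun _ => mem_cl) hV x) (Nat.card_congr f.toEquiv).le
  have h : ∀ x (hx : x ∈ [1, 2, 3, 4, 5, 6, 7]),
      ((f.trans (MulEquiv.subgroupCongr hc)) ⟨_, mem_cl hx⟩ : Equiv.Perm ℕ) = sv (gp nets) Vo x := fun x hx => by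
    have := hf [x] (by simpa using hx)
    simp only [ev_single] at this
    exact this
  refine ⟨f.trans (MulEquiv.subgroupCongr hc), ?_, h⟩
  rintro ⟨⟨k, hk⟩, e⟩
  have c : ∀ x ∈ [1, 2, 3, 4, 5, 6], ∀ y ∈ [1, 2, 3, 4, 5, 6], nth [] Vo x = [y] → ∀ p, gp nets x p = p →
      gp nets y (k p) = k p := fun x hx y _ a p hp => by
    have := h x (by clear a hp; revert x; decide)
    rw [← e, sv, a, ev_single] at this
    rw [← this]; simp [hp]
  have h0 := (J2.stab24.1 k (le7 hk)).2 hk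
  have h1 : k 1 = 1 := (fix6 (lt416 (le7 hk) (p := 1) (by norm_num)) fun y hy => by
    obtain ⟨x, hx, a, b⟩ : ∃ x ∈ [1, 2, 3, 4, 5, 6], nth [] Vo x = [y] ∧ Nat.beq (wap tb [x] 1) 1 = true := by
      revert y; decide +kernel
    exact c x hx y hy a 1 (fx b)).resolve_left fun e => by simpa using k.injective (e.trans h0.symm)
  obtain ⟨h2, h3⟩ := (img23 (le7 hk) (Or.inl ⟨h0, h1⟩) fun x hx => by
    have := h x (by revert x; decide)
    rw [← e, sv, show nth [] Vo x = [x] by clear this; revert x; decide +kernel, ev_single] at this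
    exact mul_inv_eq_iff_eq_mul.1 this).resolve_left fun a =>
      mv6 (a.1 ▸ c 5 (by decide) 6 (by decide) rfl 2 (fx (by decide +kernel)))
  exact no_swap (le7 hk) h0 h1 h2 h3

end Cfsg.Lib.Rk3.G24
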