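/-
The McLaughlin graph and its automorphisms.
-/
import Cfsg.Agent.Lib.Comp.McL.R
import Cfsg.Agent.Lib.Comp.SetOrb
import Cfsg.Agent.Lib.Comp.U43x.C7
import Cfsg.Agent.Lib.Leech.Simple

set_option autoImplicit false
set_option maxRecDepth 100000
set_option Elab.async false

namespace Cfsg.Lib.Rk3.Mc

open Subgroup MulAction Cfsg.Lib.Comp Cfsg.Lib.Comp.McR Cfsg.Lib.Rfn Cfsg.Lib.Leech

/-- the whole group. -/
noncomputable abbrev G0 : Subgroup (Equiv.Perm ℕ) := cl (gp mn) LG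
/-- the point stabiliser. -/
noncomputable abbrev H0 : Subgroup (Equiv.Perm ℕ) := cl (gp mn) LH
/-- the two point stabiliser. -/
noncomputable abbrev K0 : Subgroup (Equiv.Perm ℕ) := cl (gp mn) LK

instance finCl (L : List ℕ) : Finite (cl (gp mn) L) := mn_ok.finite L

theorem cl_old {L : List ℕ} (h : ∀ x ∈ L, x < 79) : cl (gp mn) L = cl (gp PMcL.nets) L := by
  have e : ∀ x ∈ L, gp mn x = gp PMcL.nets x := fun x hx => by
    have l : x < PMcL.nets.length := (h x hx).trans_eq (by decide +kernel)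
    rw [gp, gp, mn, apd_eq, nth_eq, nth_eq, List.getD_append _ _ _ _ l]
  exact le_antisymm (cl_le.2 fun x hx => e x hx ▸ mem_cl hx) (cl_le.2 fun x hx => (e x hx).symm ▸ mem_cl hx)

theorem G_eq : G0 = cl (gp PMcL.nets) PMcL.L :=
  (cl_old (by decide)).trans ((congrArg _ (by decide +kernel)).trans PMcL.sM_eq)

theorem card_G : Nat.card G0 = 898128000 := G_eq ▸ PMcL.card

theorem g_ex : Exact mn PMcL.sC LG := exact_of_beq card_G.le (by decide +kernel)

theorem ap {w : List ℕ} {p q : ℕ} (h : wap tb w q = p) : ev (gp mn) w p = q := by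
  rw [← h, wap_eq htb, app_inv]

theorem ap1 {x p q : ℕ} (h : wap tb [x] q = p) : gp mn x p = q := by simpa only [ev_single] using ap h

theorem HG : H0 ≤ G0 := cl_mono (by decide)
theorem KH : K0 ≤ H0 := cl_mono (by decide)
theorem fx {g : Equiv.Perm ℕ} (hg : g ∈ G0) : Fx 275 g := PMcL.fx g (G_eq ▸ hg)
theorem fix0 {g : Equiv.Perm ℕ} (hg : g ∈ G0) : g 0 = 0 ↔ g ∈ H0 := (g_ex.cons mn_ok).2.2.1 g hg
theorem h0 {g : Equiv.Perm ℕ} (hg : g ∈ H0) : g 0 = 0 := (fix0 (HG hg)).2 hg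

theorem card_H : Nat.card H0 = 3265920 := by
  have : _ = 275 * Nat.card H0 := (g_ex.cons mn_ok).2.2.2.2.2
  rw [card_G] at this; omega

theorem del : (∀ g ∈ H0, g 1 = 1 ↔ g ∈ K0) ∧ (∀ g ∈ H0, 1 ≤ g 1 ∧ g 1 < 1 + 162) ∧
    ∀ p, 1 ≤ p → p < 1 + 162 → ∃ g ∈ H0, g 1 = p := by
  obtain ⟨-, -, a, b, c, -⟩ := (g_ex.cons mn_ok).1.cons mn_ok
  exact ⟨a, b, c⟩

theorem inH {x : ℕ} (h : x ∈ LH ++ slp.map (·.1)) : gp mn x ∈ H0 :=
  (cl_eq_of_slpB mn_ok (by norm_num) slp_ok).le (mem_cl h)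

theorem gam {g : Equiv.Perm ℕ} (hg : g ∈ H0) {p : ℕ} (h1 : 163 ≤ p) (h2 : p < 275) : 163 ≤ g p ∧ g p < 163 + 112 := by
  refine ⟨not_lt.1 fun h => ?_, (fx (HG hg)).lt h2⟩
  have : g p ≠ 0 := fun e => by have := g.injective (e.trans (h0 hg).symm); omega
  obtain ⟨k, hk, e⟩ := del.2.2 (g p) (by omega) h
  have := del.2.1 _ (mul_mem (inv_mem hg) hk)
  rw [Equiv.Perm.mul_apply, e, inv_app] at this
  omega

theorem gam2 (p : ℕ) (h1 : 163 ≤ p) (h2 : p < 163 + 112) : ∃ g ∈ H0, g 163 = p := by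
  obtain ⟨g, hg, q, hq, e⟩ := orb_sound mn_ok (G := H0) (ops := oH) (fun x hx => mem_cl (by revert x; decide)) (msk [163]) p
    (by rw [show orb mn oH (msk [163]) = itv 163 112 by decide +kernel, testBit_itv]; simp [h1, h2])
  exact ⟨g, hg, List.mem_singleton.1 (testBit_msk.1 hq) ▸ e⟩

theorem baseH : IsBase H0 (bases PMcL.sC) := (g_ex.isBase mn_ok).mono HG

/-- adjacency. -/
def adj (p q : ℕ) : Prop := ∃ g ∈ G0, g 0 = p ∧ g 163 = q

theorem aut_G {g : Equiv.Perm ℕ} (hg : g ∈ G0) : Aut (25 * 11) adj g :=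
  ⟨fx hg, fun _ _ _ _ => ⟨fun ⟨k, a, b, c⟩ => ⟨g⁻¹ * k, mul_mem (inv_mem hg) a, by simp [b], by simp [c]⟩,
    fun ⟨k, a, b, c⟩ => ⟨g * k, mul_mem hg a, by simp [b], by simp [c]⟩⟩⟩

theorem adj0 {q : ℕ} : adj 0 q ↔ 163 ≤ q ∧ q < 163 + 112 :=
  ⟨fun ⟨_, a, b, c⟩ => c ▸ gam ((fix0 a).1 b) le_rfl (by norm_num), fun h => by
    obtain ⟨g, hg, e⟩ := gam2 q h.1 h.2
    exact ⟨g, HG hg, h0 hg, e⟩⟩

theorem DD_ok : DD.OK (25 * 11) adj :=
  ⟨⟨_, mn_ok⟩, htb, fun x hx => aut_G (mem_cl (testBit_msk.1 hx)), ⟨by norm_num, fun q => by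
    change (itv 163 112).testBit q = true ↔ _
    rw [testBit_itv, decide_eq_true_eq, adj0]; omega⟩, 23, by norm_num, rfl⟩

/-- the neighbourhoods. -/
noncomputable abbrev nb (p : ℕ) : ℕ := nbV DD 12 p

theorem nb_iff {p : ℕ} (hp : p < 275) (q : ℕ) : (nb p).testBit q = true ↔ q < 275 ∧ adj p q :=
  (nb_nbV DD_ok reach_ok hp).2 q

theorem aut_tau : Aut (25 * 11) adj (gp mn 97) := by
  have f : Fx 275 (gp mn 97) := fx_of_fxB (k := 9) (L := [97]) mn_ok (by norm_num) (by norm_num) (by decide +kernel)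
    (mem_cl (by decide))
  refine ⟨f, fun p hp q hq => ?_⟩
  have := beq_tt.1 (allN_iff.1 (by decide +kernel : allN 275 (fun p => Nat.beq (img mn 97 (nb (tb 97 p))) (nb p)) = true)
    _ (f.lt hp))
  have a := nb_iff (f.lt hp) (gp mn 97 q)
  rw [← this, testBit_img mn_ok, htb, inv_app, inv_app, nb_iff hp] at a
  exact ⟨fun h => (a.2 ⟨f.lt hq, h⟩).2, fun h => (a.1 ⟨hq, h⟩).2⟩

theorem orb_fix {B ops : List ℕ} {b p : ℕ} (h1 : ∀ x ∈ ops, x ∈ LG ∨ x ∈ LH ++ slp.map (·.1))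
    (h2 : ∀ x ∈ ops, ∀ c ∈ B, wap tb [x] c = c) (h : (orb mn ops (msk [b])).testBit p = true) :
    ∃ g ∈ G0, (∀ c ∈ B, g c = c) ∧ g b = p := by
  obtain ⟨g, hg, q, hq, e⟩ := orb_sound mn_ok (G := G0 ⊓ fixingSubgroup (Equiv.Perm ℕ) {c | c ∈ B}) (fun x hx =>
    ⟨(h1 x hx).elim mem_cl fun h => HG (inH h), (mem_fixingSubgroup_iff _).2 fun c hc => ap1 (h2 x hx c hc)⟩) _ p h
  exact ⟨g, hg.1, (mem_fixingSubgroup_iff _).1 hg.2, List.mem_singleton.1 (testBit_msk.1 hq) ▸ e⟩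

theorem step {σ g : Equiv.Perm ℕ} {B : List ℕ} {b : ℕ} (hB : ∀ c ∈ B, σ c = c) (h : ∀ c ∈ B, g c = c) (e : g b = σ b) :
    ∀ c ∈ B ++ [b], (g⁻¹ * σ) c = c := fun c hc => Equiv.Perm.inv_eq_iff_eq.2 (by
  rcases List.mem_append.1 hc with k | k
  · rw [hB c k, h c k]
  · rw [List.mem_singleton.1 k, e])

theorem aut_mem {σ : Equiv.Perm ℕ} (h : Aut (25 * 11) adj σ) : ∃ g ∈ G0, σ = g ∨ σ = g * gp mn 97 := by
  obtain ⟨g0, m0, e0⟩ := (g_ex.cons mn_ok).2.2.2.2.1 (σ 0) (Nat.zero_le _) (h.1.lt (by norm_num))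
  have f0 := step (B := []) (by simp) (by simp) e0
  have h0 := (aut_G m0).inv.mul h
  obtain ⟨g1, m1, a, e⟩ := orb_fix (B := [0]) (by decide) (by decide +kernel) (levelM DD_ok reach_ok h0 f0 lev1)
  have f1 := step f0 a e
  have h1 := (aut_G m1).inv.mul h0
  obtain ⟨g2, m2, a, e⟩ := orb_fix (B := [0, 1]) (by decide) (by decide +kernel) (levelM DD_ok reach_ok h1 f1 lev2)
  have f2 := step f1 a e
  have h2 := (aut_G m2).inv.mul h1
  obtain ⟨g3, m3, a, e⟩ := orb_fix (B := [0, 1, 2]) (by decide) (by decide +kernel) (levelM DD_ok reach_ok h2 f2 lev3)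
  have f3 := step f2 a e
  have h3 := (aut_G m3).inv.mul h2
  obtain ⟨g4, m4, a, e⟩ := orb_fix (B := [0, 1, 2, 139]) (by decide) (by decide +kernel)
    (levelM DD_ok reach_ok h3 f3 lev4)
  have f4 := step f3 a e
  have h4 := (aut_G m4).inv.mul h3
  have m := mul_mem m0 (mul_mem m1 (mul_mem m2 (mul_mem m3 m4)))
  obtain ⟨u, hu, v, hv, e⟩ := (by decide +kernel : ∀ p < 275, (Nat.lor (orb mn [96] (msk [3]))
    (img mn 97 (orb mn [96] (msk [3])))).testBit p = true → ∃ u ∈ [0, 96], ∃ v ∈ [0, 97], wap tb [u, v] p = 3) _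
    (h4.1.lt (by norm_num)) (levelM DD_ok reach_ok h4 f4 lev5)
  have z : gp mn 0 = 1 := rfl
  have mu : gp mn u ∈ G0 := by
    rcases List.mem_pair.1 hu with rfl | rfl
    exacts [one_mem _, HG (inH (by decide))]
  have av : Aut (25 * 11) adj (gp mn v) := by
    rcases List.mem_pair.1 hv with rfl | rfl
    exacts [aut_G (one_mem _), aut_tau]
  have := last2 DD_ok reach_ok (((aut_G mu).mul av).inv.mul h4) (step f4 (fun c hc => by
    simpa only [ev_cons, ev_nil, mul_one] using ap (w := [u, v]) (by clear mu av e; revert c u v; decide +kernel))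
    (by simpa only [ev_cons, ev_nil, mul_one] using ap e)) levz
  have k : σ = g0 * (g1 * (g2 * (g3 * g4))) * gp mn u * gp mn v := by rw [← mul_one (_ * gp mn v), ← this]; group
  refine ⟨_, mul_mem m mu, ?_⟩
  rcases List.mem_pair.1 hv with rfl | rfl
  exacts [Or.inl (k.trans (mul_one _)), Or.inr k]

theorem simple_G : IsSimpleGroup G0 := by
  obtain ⟨-, e, -⟩ := PMcL.main
  have := simple_sMcL
  exact G_eq ▸ e.symm.isSimpleGroup

theorem eq_G {X : Subgroup (Equiv.Perm ℕ)} (h : ∀ g ∈ X, Aut (25 * 11) adj g) (c : Nat.card X = 898128000) : X = G0 := by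
  have : Finite X := Nat.finite_of_card_ne_zero (by omega)
  by_contra hn
  obtain ⟨a, ha, na⟩ := SetLike.not_le_iff_exists.1 fun l => hn (eq_of_le_of_card_ge l (card_G.trans c.symm).le)
  have o : ∀ b ∈ X, b ∉ G0 → ∃ g ∈ G0, b = g * gp mn 97 := fun b hb nb => by
    obtain ⟨g, hg, e⟩ := aut_mem (h b hb)
    exact ⟨g, hg, e.resolve_left fun e => nb (e ▸ hg)⟩
  have i : (G0.subgroupOf X).index = 2 := index_eq_two_iff.2 ⟨⟨a, ha⟩⁻¹, fun b => by
    by_cases k : b.1 ∈ G0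
    · exact Or.inr ⟨k, fun l => na (inv_mem_iff.1 ((mul_mem_cancel_left k).1 l))⟩
    · obtain ⟨g, hg, e⟩ := o a ha na
      obtain ⟨l, hl, f⟩ := o b b.2 k
      refine Or.inl ⟨?_, k⟩
      change b.1 * a⁻¹ ∈ G0
      rw [e, f, mul_inv_rev, mul_assoc, mul_inv_cancel_left]
      exact mul_mem hl (inv_mem hg)⟩
  have j := (G0.subgroupOf X).card_mul_index
  have k := (X.subgroupOf G0).card_mul_index
  rw [Golay.card_subgroupOf, i, c, inf_comm] at j
  rw [Golay.card_subgroupOf, card_G] at k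
  have := simple_G
  have l := Golay.card_subgroupOf X G0
  rcases (normal_of_index_eq_two (H := X.subgroupOf G0) (by
    rw [show Nat.card ↥(G0 ⊓ X) = 449064000 by omega] at k; omega)).eq_bot_or_eq_top with e | e
  · rw [e, card_bot] at l; omega
  · rw [e, card_top, card_G] at l; omega

theorem iso_H : Nonempty (cl (gp U43x.nets) U43x.L ≃* H0) := by
  obtain ⟨e⟩ := PMcL.s_emb
  have := PMcL.nets_ok.finite LH
  exact ⟨e.trans (MulEquiv.subgroupCongr ((eq_of_le_of_card_ge (cl_le.2 fun x _ => sv_mem (M := LH) (fun _ => mem_cl)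
    (by decide +kernel) x) (((congrArg (fun S : Subgroup _ => Nat.card S) (cl_old (L := LH) (by decide))).symm.trans card_H).trans
      ((Nat.card_congr e.toEquiv).symm.trans U43x.card).symm).le).trans (cl_old (by decide)).symm))⟩

theorem inj_nb {d e : ℕ} (d1 : 1 ≤ d) (d2 : d < 163) (e1 : 1 ≤ e) (e2 : e < 163)
    (h : ∀ q, 163 ≤ q → q < 275 → (adj d q ↔ adj e q)) : d = e :=
  List.inj_on_of_nodup_map (by decide +kernel : ((List.range' 1 162).map fun d => Nat.shiftRight (nb d) 163).Nodup)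
    (List.mem_range'_1.2 ⟨d1, d2⟩) (List.mem_range'_1.2 ⟨e1, e2⟩) (Nat.eq_of_testBit_eq fun q => by
      change (nb d >>> 163).testBit q = (nb e >>> 163).testBit q
      rw [Nat.testBit_shiftRight, Nat.testBit_shiftRight, Bool.eq_iff_iff, nb_iff (by omega), nb_iff (by omega)]
      exact and_congr_right (h _ (by omega)))

theorem one_of_gam {h : Equiv.Perm ℕ} (hh : h ∈ H0) (e : ∀ q, 163 ≤ q → q < 275 → h q = q) : h = 1 :=
  baseH h hh fun b hb => by
    rcases (by decide : ∀ b ∈ bases PMcL.sC, b = 0 ∨ 1 ≤ b ∧ b < 163) b hb with rfl | k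
    · exact h0 hh
    · obtain ⟨g, hg, rfl⟩ := del.2.2 b k.1 k.2
      have := del.2.1 _ (mul_mem hh hg)
      exact inj_nb this.1 this.2 k.1 k.2 fun q a c => by
        have := (aut_G (HG hh)).2 (g 1) (by omega) q c
        rwa [e q a c] at this

theorem twist {i : ℕ} (hi : i ∈ [0, 98, 99, 100]) : (∀ p, 163 ≤ p → p < 275 → 163 ≤ gp mn i p ∧ gp mn i p < 275) ∧
    (∀ p, 163 ≤ p → p < 275 → 163 ≤ (gp mn i)⁻¹ p ∧ (gp mn i)⁻¹ p < 275) ∧
    ∃ α : H0 ≃* H0, ∀ (h : H0) p, 163 ≤ p → p < 275 → (α h).1 (gp mn i p) = gp mn i (h.1 p) := by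
  have a : ∀ p, (163 ≤ p ∧ p < 275) ↔ (163 ≤ (gp mn i)⁻¹ p ∧ (gp mn i)⁻¹ p < 275) := fun p => by
    have := testBit_img mn_ok i (itv 163 112) p
    rw [show img mn i (itv 163 112) = itv 163 112 by clear this; revert i; decide +kernel, testBit_itv, testBit_itv,
      decide_eq_decide] at this
    exact this
  have b : ∀ p, 163 ≤ p → p < 275 → 163 ≤ gp mn i p ∧ gp mn i p < 275 := fun p c d => (a _).2 (by simp [c, d])
  refine ⟨b, fun p c d => (a p).1 ⟨c, d⟩, ?_⟩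
  let R : Subgroup (H0 × H0) :=
    { carrier := {x | ∀ q, 163 ≤ q → q < 275 → (gp mn i)⁻¹ (x.2.1 q) = x.1.1 ((gp mn i)⁻¹ q)}
      one_mem' := fun _ _ _ => rfl
      mul_mem' := fun {x y} u v q c d => (u _ (gam y.2.2 c d).1 (gam y.2.2 c d).2).trans (congrArg x.1.1 (v q c d))
      inv_mem' := fun {x} u q c d => Equiv.Perm.eq_inv_iff_eq.2 ((u _ (gam (inv_mem x.2.2) c d).1
        (gam (inv_mem x.2.2) c d).2).symm.trans (congrArg _ (app_inv _ q))) }
  obtain ⟨f, hf, k⟩ := hom_of_rel R (fun h u => Subtype.ext (one_of_gam h.2 fun q c d => (gp mn i)⁻¹.injective (u q c d)))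
    (fun h u => Subtype.ext (one_of_gam h.2 fun q c d => by
      simpa using (u _ (b q c d).1 (b q c d).2).symm)) fun h => by
    have : H0 ≤ (R.map (MonoidHom.fst _ _)).map H0.subtype := cl_le.2 fun x hx => by
      obtain ⟨e, -, s, t⟩ : ∃ e ∈ (0, x, [x]) :: VT, subB e.2.2 LH = true ∧ allN 112 (fun p =>
          Nat.beq (wap tb (apd e.2.2 [i]) (Nat.add 163 p)) (wap tb [i, x] (Nat.add 163 p))) = true := by
        clear a b R; revert x i; decide +kernel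
      refine ⟨⟨_, mem_cl hx⟩, ⟨(_, ⟨_, ev_mem fun y hy => mem_cl (sub_of_subB s y hy)⟩), inv_mem_iff.1 fun q c d => ?_,
        rfl⟩, rfl⟩
      have := beq_tt.1 (allN_iff.1 t (q - 163) (by omega))
      rw [show Nat.add 163 (q - 163) = q by simp only [Nat.add_eq]; omega, wap_eq htb, wap_eq htb, apd_eq, ev_append,
        ev_single, ev_cons, ev_single, mul_inv_rev, mul_inv_rev] at this
      exact this
    obtain ⟨⟨_, y⟩, u, rfl⟩ := (mem_map_iff_mem (subtype_injective _)).1 (this h.2)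
    exact ⟨y, u⟩
  exact ⟨MulEquiv.ofBijective f (hf.bijective_of_finite), fun h p c d =>
    Equiv.Perm.inv_eq_iff_eq.1 ((k h _ (b p c d).1 (b p c d).2).trans (congrArg h.1 (inv_app _ p)))⟩

end Cfsg.Lib.Rk3.Mc
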