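/-
Subgroups of index 112 and 162 in the point stabiliser of the McLaughlin group.
-/
import Cfsg.Agent.Lib.Rank3.McA

set_option autoImplicit false
set_option maxRecDepth 100000
set_option Elab.async false

namespace Cfsg.Lib.Rk3.Mc

open Subgroup MulAction Cfsg.Lib.Comp Cfsg.Lib.Comp.McR Cfsg.Lib.Rfn Cfsg.Lib.Leech

theorem eqX {u w : List ℕ} {e : ℕ} (h : eqP tb (bases PMcL.sC) (LH ++ slp.map (·.1)) u e w = true) :
    ev (gp mn) u ^ e = ev (gp mn) w :=
  (baseH.mono (cl_eq_of_slpB mn_ok (by norm_num) slp_ok).le).eq htb h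

theorem pc {x : ℕ} {L : List ℕ} (W : List (List ℕ)) (hL : IsPGroup 3 (cl (gp mn) L))
    (h : eqP tb (bases PMcL.sC) (LH ++ slp.map (·.1)) [x] 3 [] = true ∧ ∀ y ∈ L, ∃ w ∈ W, subB w L = true ∧
      eqP tb (bases PMcL.sC) (LH ++ slp.map (·.1)) [x, y] 1 (w ++ [x]) = true) : IsPGroup 3 (cl (gp mn) (x :: L)) :=
  pgroup_cons hL (by simpa only [ev_single, ev_nil] using eqX h.1) fun y hy => by
    obtain ⟨w, -, a, b⟩ := h.2 y hy
    exact ⟨w, sub_of_subB a, eqX b⟩

theorem S3 : IsPGroup 3 (cl (gp mn) LS) :=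
  pc pc86 (pc pc85 (pc pc84 (pc pc83 (pc pc82 (pc [] (IsPGroup.of_bot.to_le (cl_le.2 (by simp))) (by decide +kernel))
    (by decide +kernel)) (by decide +kernel)) (by decide +kernel)) (by decide +kernel)) (by decide +kernel)

theorem pop_card {E : ℕ} {S : Set ℕ} (h : ∀ p, E.testBit p = true ↔ p ∈ S) (hS : ∀ p ∈ S, p < 275) :
    pop (spr 12 23) E = S.ncard := by
  have e : {p | p < 12 * 23 ∧ E.testBit p = true} = S := Set.ext fun p =>
    ⟨fun k => (h p).1 k.2, fun k => ⟨(hS p k).trans (by norm_num), (h p).2 k⟩⟩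
  have := Set.ncard_le_ncard (show S ⊆ Set.Ico 0 275 from fun p k => ⟨Nat.zero_le _, hS p k⟩)
  rw [Set.ncard_Ico_nat] at this
  rw [(pop_le 23 E).2, e, Nat.mod_eq_of_lt (by omega)]

theorem inv_gam {J : Subgroup (Equiv.Perm ℕ)} (hJ : J ≤ H0) {L : List (ℕ × List ℕ)} {k : ℕ → Bool} {n : ℕ}
    (hL : ∀ e ∈ L, ∀ x ∈ e.2, gp mn x ∈ J) (hu : uni mn L = itv 163 112) {S : ℕ → Prop}
    (hS : ∀ g ∈ J, ∀ p, S p → S (g p)) (h1 : ∀ p, S p → 163 ≤ p ∧ p < 163 + 112) (hn : 3265920 < n * Nat.card J)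
    (h : allSub mn (fun E => cnd (k E) true (Nat.ble n (pop (spr 12 341) (hwalk mn WW E)))) L 0 = true) :
    ∃ E, k E = true ∧ ∀ p, E.testBit p = true ↔ S p := by
  obtain ⟨E, a, b⟩ := allSub_sound mn_ok hL hS h
  have c : ∀ p, E.testBit p = true ↔ S p := fun p => by
    rw [b, hu, testBit_itv, decide_eq_true_eq, Nat.zero_testBit]
    exact ⟨fun k => (k.resolve_left (by simp)).1, fun k => Or.inr ⟨k, h1 p k⟩⟩
  refine ⟨E, by_contra fun hk => ?_, c⟩
  rw [Bool.eq_false_iff.2 hk] at a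
  have := hwalk_le mn_ok hJ (w := WW) (D := E) (fun x hx => mem_cl (by revert x; decide +kernel))
    fun g hg p hp => (c _).2 (hS g hg p ((c p).1 hp))
  have := Nat.mul_le_mul_right (Nat.card J) (ble_tt.1 a)
  have := card_H
  omega

theorem fixP {J : Subgroup (Equiv.Perm ℕ)} (hJ : J ≤ H0) (c : Nat.card J = 29160) (hS : cl (gp mn) LS ≤ J) :
    ∀ k ∈ J, k 163 = 163 := fun g hg => by
  have hl : ∀ p ∈ orbit J 163, 163 ≤ p ∧ p < 163 + 112 := by
    rintro _ ⟨k, rfl⟩; exact gam (hJ k.2) le_rfl (by norm_num)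
  obtain ⟨E, a, b⟩ := inv_gam hJ (L := o3) (n := 113) (k := fun E => cnd (Nat.beq (Nat.mod 29160 (pop (spr 12 23) E)) 0)
    (cnd (E.testBit 163) (Nat.beq E (msk [163])) true) true) (fun e he x hx => hS (mem_cl (by revert x e; decide)))
    (by decide +kernel) (S := (· ∈ orbit J 163)) (fun g hg _ hp => mapsTo_smul_orbit (⟨g, hg⟩ : J) 163 hp) hl (by omega)
    (by decide +kernel)
  have d := (stabilizer J 163).index_dvd_card
  rw [index_stabilizer, c, ← pop_card b fun p hp => (hl p hp).2] at d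
  rw [show Nat.beq (Nat.mod 29160 (pop (spr 12 23) E)) 0 = true from beq_tt.2 (Nat.mod_eq_zero_of_dvd d),
    (b 163).2 (mem_orbit_self _)] at a
  exact List.mem_singleton.1 (testBit_msk.1 (beq_tt.1 a ▸ (b _).2 ⟨⟨g, hg⟩, rfl⟩))

theorem conjP {K : Subgroup H0} (hK : K.index = 112) : ∃ g : H0, ∀ h : H0, h.1 163 = 163 → g⁻¹ * h * g ∈ K := by
  obtain ⟨g, hg⟩ := exists_conj_le (S3.comap_subtype (K := H0)) (K := K) (by omega)
  have i := (K.index_comap_of_surjective (f := (MulAut.conj g⁻¹).toMonoidHom) (MulEquiv.surjective _)).trans hK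
  have j := (K.comap (MulAut.conj g⁻¹).toMonoidHom).card_mul_index
  have l : cl (gp mn) LS ≤ H0 := cl_le.2 fun x hx => inH (by revert x; decide)
  refine ⟨g, fun h hh => ?_⟩
  simpa using (conj_fix (fun g hg => gam hg le_rfl (by norm_num)) gam2 i (fun k hk => fixP (map_subtype_le _)
    (by rw [card_map_of_injective (subtype_injective _)]; rw [i, card_H] at j; omega)
    (fun q hq => ⟨⟨q, l hq⟩, by simpa using hg ⟨q, l hq⟩ hq, rfl⟩) _ ⟨k, hk, rfl⟩) h).2 hh

/-- letters as elements. -/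
noncomputable def el (x : ℕ) (hx : x ∈ LH ++ slp.map (·.1) := by decide) : H0 := ⟨gp mn x, inH hx⟩

theorem conj7 {K : Subgroup H0} (hK : K.index = 162) :
    ∃ g : H0, g⁻¹ * el 79 * g ∈ K ∧ g⁻¹ * el 80 * g ∈ K := by
  have : Fact (Nat.Prime 7) := ⟨by norm_num⟩
  have o : orderOf (el 79) = 7 := orderOf_eq_prime (Subtype.ext (show gp mn 79 ^ 7 = 1 by
    simpa only [ev_single, ev_nil] using eqX (u := [79]) (e := 7) (w := []) (by decide +kernel))) fun h =>
    absurd ((congrArg (·.1 164) h).symm.trans (ap1 (q := gp mn 79 164) (by rw [wap_eq htb, ev_single, inv_app])))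
      (by rw [ap1 (x := 79) (p := 164) (q := tb 79 (tb 79 (tb 79 (tb 79 (tb 79 (tb 79 164)))))) (by decide +kernel)]
          decide +kernel)
  obtain ⟨g, hg⟩ := exists_conj_le (IsPGroup.of_card (p := 7) (n := 1) ((Nat.card_zpowers _).trans o)) (K := K) (by omega)
  have i := (K.index_comap_of_surjective (f := (MulAut.conj g⁻¹).toMonoidHom) (MulEquiv.surjective _)).trans hK
  have j := (K.comap (MulAut.conj g⁻¹).toMonoidHom).card_mul_index
  obtain ⟨e⟩ := iso_H
  have a := hg _ (mem_zpowers _)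
  have n := norm_le (K := K.comap (MulAut.conj g⁻¹).toMonoidHom) (p := 7) (m := 466560) (l := 2880) card_H
    (by norm_num) (U43x.sc7 e.symm) (by rw [i, card_H] at j; omega) (by norm_num) (by norm_num) o (by simpa using a)
  suffices el 80 ∈ normalizer (zpowers (el 79) : Set H0) from ⟨g, a, by simpa using n this⟩
  refine mem_normalizer_fintype ?_
  rintro _ ⟨k, rfl⟩
  have : el 80 * el 79 * (el 80)⁻¹ = el 79 ^ 4 := mul_inv_eq_of_eq_mul (Subtype.ext (show
      gp mn 80 * gp mn 79 = gp mn 79 ^ 4 * gp mn 80 by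
    simpa only [ev_cons, ev_nil, pow_succ, pow_zero, one_mul, mul_one, mul_assoc] using
      eqX (u := [80, 79]) (e := 1) (w := [79, 79, 79, 79, 80]) (by decide +kernel)))
  rw [← conj_zpow, this]
  exact zpow_mem (pow_mem (mem_zpowers _) _) _

theorem allSub_cons {k : ℕ → Bool} {e : ℕ × List ℕ} {t : List (ℕ × List ℕ)} {A : ℕ} (h1 : allSub mn k t A = true)
    (h2 : allSub mn k t (Nat.lor A (orb mn e.2 (Nat.shiftLeft 1 e.1))) = true) : allSub mn k (e :: t) A = true :=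
  cnd_tt.2 ⟨h1, h2⟩

theorem sets_ck : allSub mn (fun E => cnd (decide (E ∈ 0 :: itv 163 112 ::
    [0, 98, 99, 100].map fun i => img mn i (Nat.land (nb 1) (itv 163 112)))) true
      (Nat.ble 163 (pop (spr 12 341) (hwalk mn WW E)))) o7 0 = true := by
  unfold o7
  iterate 8 all_goals refine allSub_cons ?_ ?_
  all_goals decide +kernel

theorem sets {J : Subgroup (Equiv.Perm ℕ)} (hJ : J ≤ H0) (c : Nat.card J = 20160) (hx : gp mn 79 ∈ J) (hy : gp mn 80 ∈ J)
    {S : ℕ → Prop} (hS : ∀ g ∈ J, ∀ p, S p → S (g p)) (h1 : ∀ p, S p → 163 ≤ p ∧ p < 163 + 112) :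
    (∀ p, ¬ S p) ∨ (∀ p, 163 ≤ p → p < 275 → S p) ∨
      ∃ i ∈ [0, 98, 99, 100], ∀ p, 163 ≤ p → p < 275 → (S (gp mn i p) ↔ adj 1 p) := by
  obtain ⟨E, a, b⟩ := inv_gam hJ (L := o7) (n := 163) (k := fun E => decide (E ∈ 0 :: itv 163 112 ::
    [0, 98, 99, 100].map fun i => img mn i (Nat.land (nb 1) (itv 163 112)))) (fun e he x hx => by
      rcases (show x = 79 ∨ x = 80 by revert x e; decide) with rfl | rfl <;> assumption)
    (by decide +kernel) hS h1 (by omega) sets_ck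
  rw [decide_eq_true_eq, List.mem_cons, List.mem_cons, List.mem_map] at a
  rcases a with rfl | rfl | ⟨i, hi, rfl⟩
  · exact Or.inl fun p hp => by simpa using (b p).2 hp
  · exact Or.inr (Or.inl fun p c d => (b p).1 (by rw [testBit_itv]; simp [c, d]))
  · refine Or.inr (Or.inr ⟨i, hi, fun p c d => ?_⟩)
    rw [← b, testBit_img mn_ok, inv_app, land_eq', Nat.testBit_and, Bool.and_eq_true, nb_iff (by norm_num), testBit_itv]
    simp [c, d]

theorem fix_one {h : Equiv.Perm ℕ} (hh : h ∈ H0) (e : ∀ q, 163 ≤ q → q < 275 → (adj 1 (h q) ↔ adj 1 q)) : h 1 = 1 := by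
  have := del.2.1 _ (inv_mem hh)
  refine Equiv.Perm.inv_eq_iff_eq.1 (inj_nb this.1 this.2 le_rfl (by norm_num) fun q a b => ?_) |>.symm
  rw [← (aut_G (HG hh)).2 _ (by omega) q b, app_inv, e q a b]

theorem nb_eq {J : Subgroup (Equiv.Perm ℕ)} {L : List (ℕ × List ℕ)} (hL : ∀ e ∈ L, ∀ x ∈ e.2, gp mn x ∈ J)
    {S : ℕ → Prop} (hS : ∀ g ∈ J, ∀ p, S p → S (g p)) {b a n : ℕ} (hb : b < 275) (hu : uni mn L = itv a n)
    (h : allSub mn (fun E => cnd (Nat.beq (pop (spr 12 23) E) 112) (Nat.beq E (nb b)) true) L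
      (Nat.xor (nb b) (Nat.land (nb b) (itv a n))) = true) (h1 : ∀ p, S p → p < 275) (hc : {p | S p}.ncard = 112)
    (h2 : ∀ p < 275, ¬ (a ≤ p ∧ p < a + n) → (S p ↔ adj b p)) {p : ℕ} (hp : p < 275) : S p ↔ adj b p := by
  obtain ⟨E, u, v⟩ := allSub_sound mn_ok hL hS h
  have c : ∀ p, E.testBit p = true ↔ S p := fun p => by
    have := nb_iff hb p
    have := h1 p
    have := h2 p
    rw [v, hu, show Nat.xor (nb b) (Nat.land (nb b) (itv a n)) = nb b ^^^ (nb b &&& itv a n) from rfl, Nat.testBit_xor,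
      Nat.testBit_and, testBit_itv]
    by_cases k : a ≤ p ∧ p < a + n
    · simp [k]
    · simp only [k, decide_false, Bool.and_false, Bool.xor_false]
      tauto
  rw [pop_card (S := {p | S p}) c h1, hc] at u
  rw [← c, beq_tt.1 u, nb_iff hb, and_iff_right hp]

theorem adj_sy {p : ℕ} (hp : p < 275) : adj p 163 ↔ adj 163 p := by
  have : ∀ p < 275, (nb p).testBit 163 = (nb 163).testBit p := by decide +kernel
  have a := nb_iff hp 163
  rw [this p hp, nb_iff (by norm_num)] at a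
  tauto

end Cfsg.Lib.Rk3.Mc
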