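/-
Recognition of the McLaughlin group as a rank 3 permutation group.
-/
import Cfsg.Agent.Lib.Rank3.McB

set_option autoImplicit false
set_option maxRecDepth 100000

namespace Cfsg.Lib.Rk3.Mc

open Subgroup MulAction Cfsg.Lib.Comp Cfsg.Lib.Comp.McR Cfsg.Lib.Rfn Cfsg.Lib.Leech Pointwise

variable {G Ω : Type*} [Group G] [MulAction G Ω]

/-- the orbital graph. -/
def Orbital (G : Type*) [Group G] [MulAction G Ω] (a b u v : Ω) : Prop := ∃ g : G, g • a = u ∧ g • b = v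

theorem Orbital.smul {a b u v : Ω} (g : G) : Orbital G a b (g • u) (g • v) ↔ Orbital G a b u v :=
  ⟨fun ⟨k, p, q⟩ => ⟨g⁻¹ * k, by rw [mul_smul, p, inv_smul_smul], by rw [mul_smul, q, inv_smul_smul]⟩,
    fun ⟨k, p, q⟩ => ⟨g * k, by rw [mul_smul, p], by rw [mul_smul, q]⟩⟩

theorem Orbital.base {a b v : Ω} : Orbital G a b a v ↔ v ∈ orbit (stabilizer G a) b :=
  ⟨fun ⟨k, p, q⟩ => ⟨⟨k, p⟩, q⟩, fun ⟨k, q⟩ => ⟨k, k.2, q⟩⟩

theorem Orbital.symm {a b u v : Ω} {t : G} (h1 : t • a = b) (h2 : t • b = a) (h : Orbital G a b u v) :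
    Orbital G a b v u := by
  obtain ⟨k, p, q⟩ := h
  exact ⟨k * t, by rw [mul_smul, h1, q], by rw [mul_smul, h2, p]⟩

theorem Orbital.card [IsPretransitive G Ω] (a b u : Ω) :
    {v | Orbital G a b u v}.ncard = (orbit (stabilizer G a) b).ncard := by
  obtain ⟨g, rfl⟩ := exists_smul_eq G a u
  rw [← Set.ncard_smul_set g (orbit _ b)]
  congr 1
  ext v
  rw [Set.mem_smul_set_iff_inv_smul_mem, ← Orbital.base, ← Orbital.smul g, smul_inv_smul]; rfl

theorem Orbital.block [IsPretransitive G Ω] {a b : Ω} {t : G} (h1 : t • a = b) (h2 : t • b = a)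
    (hc : ∀ v w, Orbital G a b a v → Orbital G a b v w → w = a ∨ Orbital G a b a w) :
    (insert a (orbit (stabilizer G a) b)).ncard ∣ Nat.card Ω := by
  have tr : ∀ u v w, (v = u ∨ Orbital G a b u v) → (w = v ∨ Orbital G a b v w) → w = u ∨ Orbital G a b u w := by
    rintro u v w (rfl | p) (rfl | q)
    exacts [Or.inl rfl, Or.inr q, Or.inr p, by
      obtain ⟨g, rfl⟩ := exists_smul_eq G a u
      rw [← smul_inv_smul g v, Orbital.smul] at p
      rw [← Orbital.smul g⁻¹] at q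
      exact (hc _ _ p q).imp inv_smul_eq_iff.1 fun k => by rwa [← Orbital.smul g, smul_inv_smul] at k]
  have sy : ∀ u v, (v = u ∨ Orbital G a b u v) → u = v ∨ Orbital G a b v u := fun u v => Or.imp Eq.symm (.symm h1 h2)
  have sm : ∀ (g : G) u v, (g • v = g • u ∨ Orbital G a b (g • u) (g • v)) ↔ v = u ∨ Orbital G a b u v := fun g u v => by
    rw [smul_left_cancel_iff, Orbital.smul]
  have e : ∀ v, v ∈ insert a (orbit (stabilizer G a) b) ↔ v = a ∨ Orbital G a b a v := fun v => by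
    rw [Set.mem_insert_iff, Orbital.base]
  refine IsBlock.ncard_dvd_card (G := G) (isBlock_iff_smul_eq_of_mem.2 fun g u p q => Set.ext fun v => ?_)
    (Set.insert_nonempty _ _)
  rw [Set.mem_smul_set_iff_inv_smul_mem, e, e, ← sm g, smul_inv_smul]
  have := tr _ _ _ ((e _).1 q) (sy _ _ ((sm g _ _).2 ((e _).1 p)))
  exact ⟨tr _ _ _ this, tr _ _ _ (sy _ _ this)⟩

theorem idx {φ : H0 →* G} {A : Subgroup G} (hr : φ.range = A) (y : Ω) :
    ((stabilizer G y).comap φ).index = (orbit A y).ncard := by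
  rw [index_comap, hr]; exact index_stabilizer A y

theorem stage [Finite G] [IsPretransitive G Ω] [Finite Ω] (hΩ : Nat.card Ω = 275) {a b c : Ω} {φ : H0 →* G}
    (hφ : Function.Injective φ) (hr : φ.range = stabilizer G a) (hb : (orbit (stabilizer G a) b).ncard = 112)
    (hc : (orbit (stabilizer G a) c).ncard = 162) {t : G} (t1 : t • a = b) (t2 : t • b = a)
    (h3 : ∀ x, x = a ∨ x ∈ orbit (stabilizer G a) b ∨ x ∈ orbit (stabilizer G a) c) :
    ∃ (ψ : H0 →* G) (r : ℕ → Ω) (d : Ω), Function.Injective ψ ∧ ψ.range = stabilizer G a ∧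
      (∀ p, 163 ≤ p → p < 275 → r p ∈ orbit (stabilizer G a) b) ∧ d ∈ orbit (stabilizer G a) c ∧
      (∀ (h : H0) p, 163 ≤ p → p < 275 → ψ h • r p = r (h.1 p)) ∧ (∀ h : H0, h.1 1 = 1 → ψ h • d = d) ∧
      ∀ p, 163 ≤ p → p < 275 → (Orbital G a b d (r p) ↔ adj 1 p) := by
  obtain ⟨k, hk⟩ := conjP ((idx hr b).trans hb)
  obtain ⟨g, hx, hy⟩ := conj7 ((idx hr c).trans hc)
  have m : ∀ (h : H0) (y : Ω), φ h • y ∈ orbit (stabilizer G a) y := fun h y => ⟨⟨_, hr.le ⟨h, rfl⟩⟩, rfl⟩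
  have cj : ∀ (g h : H0) (y : Ω), g⁻¹ * h * g ∈ (stabilizer G y).comap φ → φ h • φ g • y = φ g • y := fun g h y e => by
    rw [← inv_smul_eq_iff, ← map_inv, ← mul_smul, ← mul_smul, ← map_mul, ← map_mul]; exact e
  obtain ⟨r, r1⟩ := exists_orb' φ (y := φ k • b) (b := 163) fun h hh => cj _ _ _ (hk h hh)
  have re : ∀ (h : H0) p, 163 ≤ p → p < 275 → φ h • r p = r (h.1 p) := fun h p u v => by
    obtain ⟨l, hl, rfl⟩ := gam2 p u v
    rw [r1 ⟨l, hl⟩, ← mul_smul, ← map_mul, ← r1]; rfl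
  have rm : ∀ p, 163 ≤ p → p < 275 → r p ∈ orbit (stabilizer G a) b := fun p u v => by
    obtain ⟨l, hl, rfl⟩ := gam2 p u v
    rw [r1 ⟨l, hl⟩, ← mul_smul, ← map_mul]; exact m _ _
  have rs : ∀ v ∈ orbit (stabilizer G a) b, ∃ p, 163 ≤ p ∧ p < 275 ∧ r p = v := by
    rintro _ ⟨⟨_, hl⟩, rfl⟩
    obtain ⟨l, rfl⟩ := hr.ge hl
    have := gam (l * k⁻¹).2 le_rfl (by norm_num)
    exact ⟨_, this.1, this.2, by rw [r1, ← mul_smul, ← map_mul, inv_mul_cancel_right]; rfl⟩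
  have oc := orbit_eq_iff.2 (m g c)
  have i := ((idx hr (φ g • c)).trans (congrArg _ oc)).trans hc
  have j := ((stabilizer G (φ g • c)).comap φ).card_mul_index
  rw [i, card_H] at j
  rcases sets (J := ((stabilizer G (φ g • c)).comap φ).map H0.subtype) (map_subtype_le _)
    (by rw [card_map_of_injective (subtype_injective _)]; omega) ⟨el 79, cj _ _ _ hx, rfl⟩ ⟨el 80, cj _ _ _ hy, rfl⟩
    (S := fun p => (163 ≤ p ∧ p < 163 + 112) ∧ Orbital G a b (φ g • c) (r p)) (by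
      rintro _ ⟨l, hl, rfl⟩ p ⟨u, v⟩
      refine ⟨gam l.2 u.1 u.2, ?_⟩
      rw [← Orbital.smul (φ l), show φ l • φ g • c = φ g • c from hl, re l p u.1 u.2] at v
      exact v) (fun _ h => h.1) with h | h | ⟨i, hi, h⟩
  · have := Orbital.block t1 t2 fun v w p q => (h3 w).imp_right fun k => k.elim Orbital.base.2 fun k => by
      obtain ⟨⟨_, hl⟩, rfl⟩ := oc.ge k
      obtain ⟨l, rfl⟩ := hr.ge hl
      obtain ⟨s, s1, s2, e⟩ := rs _ (mapsTo_smul_orbit (⟨_, hl⟩ : stabilizer G a)⁻¹ _ (Orbital.base.1 p))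
      exact (h s ⟨⟨s1, s2⟩, by
        rw [e, ← Orbital.smul (φ l)]; exact (smul_inv_smul (φ l) v).symm ▸ q.symm t1 t2⟩).elim
    rw [hΩ] at this
    by_cases k : a ∈ orbit (stabilizer G a) b
    · rw [Set.insert_eq_of_mem k, hb] at this; omega
    · rw [Set.ncard_insert_of_notMem k, hb] at this; omega
  · have := Set.ncard_le_ncard (s := orbit (stabilizer G a) (φ g • c)) (t := {v | Orbital G a b (r 163) v}) (by
      rintro _ ⟨⟨_, hl⟩, rfl⟩
      obtain ⟨l, rfl⟩ := hr.ge hl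
      have u := gam (inv_mem l.2) le_rfl (by norm_num)
      have := (Orbital.smul (φ l)).2 (h _ u.1 u.2).2
      rw [re _ _ u.1 u.2, app_inv] at this
      exact this.symm t1 t2)
    rw [Orbital.card, oc, hb, hc] at this
    omega
  · obtain ⟨p1, p2, α, hα⟩ := twist hi
    have r' : (φ.comp α.toMonoidHom).range = stabilizer G a := by
      rw [MonoidHom.range_comp, MonoidHom.range_eq_top.2 α.surjective, ← MonoidHom.range_eq_map, hr]
    have e : ∀ (h : H0) p, 163 ≤ p → p < 275 → φ (α h) • r (gp mn i p) = r (gp mn i (h.1 p)) := fun h p u v => by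
      rw [re _ _ (p1 p u v).1 (p1 p u v).2, hα h p u v]
    have f : ∀ p, 163 ≤ p → p < 275 → (Orbital G a b (φ g • c) (r (gp mn i p)) ↔ adj 1 p) := fun p u v =>
      (and_iff_right (p1 p u v)).symm.trans (h p u v)
    refine ⟨φ.comp α.toMonoidHom, fun p => r (gp mn i p), φ g • c, hφ.comp α.injective, r',
      fun p u v => rm _ (p1 p u v).1 (p1 p u v).2, m g c, e, fun l hl => (conj_fix del.2.1 del.2.2
        (((idx r' (φ g • c)).trans (congrArg _ oc)).trans hc) (fun l hl => fix_one l.2 fun q u v => ?_) l).2 hl, f⟩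
    rw [← f _ u v, ← f _ (gam l.2 u v).1 (gam l.2 u v).2, ← e l q u v,
      ← Orbital.smul (φ (α l)) (v := r (gp mn i q)), show φ (α l) • φ g • c = φ g • c from hl]

theorem main [Finite G] [IsPretransitive G Ω] [FaithfulSMul G Ω] [Fintype Ω] (hΩ : Fintype.card Ω = 275) {a b c : Ω}
    (e : H0 ≃* stabilizer G a) (hb : (orbit (stabilizer G a) b).ncard = 112)
    (hc : (orbit (stabilizer G a) c).ncard = 162) : Nonempty (G ≃* G0) := by
  have h3 := orbit_cases (a := a) (fun _ h => h) hb hc (by norm_num) (by norm_num) (by norm_num) hΩ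
  have cA : Nat.card (stabilizer G a) = 3265920 := (Nat.card_congr e.toEquiv).symm.trans card_H
  have cb := Golay.card_eq_orbit_mul (stabilizer G a) b
  have cc := Golay.card_eq_orbit_mul (stabilizer G a) c
  rw [cA, hb] at cb
  rw [cA, hc] at cc
  have ab : b ≠ a := fun h => by rw [h, inf_idem, cA] at cb; omega
  obtain ⟨t, t1, t2⟩ := exists_swap h3 ab (by omega)
  obtain ⟨φ, s, d, hφ, hr, sm, dm, se, df, ad⟩ := stage (Nat.card_eq_fintype_card.trans hΩ)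
    (φ := (stabilizer G a).subtype.comp e.toMonoidHom) ((subtype_injective _).comp e.injective) (by
      rw [MonoidHom.range_comp, MonoidHom.range_eq_top.2 e.surjective, ← MonoidHom.range_eq_map, range_subtype])
    hb hc t1 t2 h3
  have fa : ∀ h, φ h • a = a := fun h => hr.le ⟨h, rfl⟩
  obtain ⟨r, r1⟩ := exists_orb' φ df
  obtain ⟨ρ, ρ0, ρ1, ρ2⟩ : ∃ ρ : ℕ → Ω, ρ 0 = a ∧ (∀ h : H0, ρ (h.1 1) = φ h • d) ∧ ∀ p, 163 ≤ p → ρ p = s p :=
    ⟨fun p => if p = 0 then a else if p < 163 then r p else s p, rfl, fun h => by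
      have := del.2.1 h h.2
      simp only [if_neg (show h.1 1 ≠ 0 by omega), if_pos (show h.1 1 < 163 by omega), r1], fun p hp => by
      simp only [if_neg (show p ≠ 0 by omega), if_neg (show ¬ p < 163 by omega)]⟩
  have he : ∀ h : H0, ∀ p < 275, φ h • ρ p = ρ (h.1 p) := fun h p hp => by
    rcases (show p = 0 ∨ (1 ≤ p ∧ p < 1 + 162) ∨ 163 ≤ p by omega) with rfl | k | k
    · rw [h0 h.2, ρ0, fa]
    · obtain ⟨l, hl, rfl⟩ := del.2.2 p k.1 k.2
      rw [ρ1 ⟨l, hl⟩, ← mul_smul, ← map_mul, ← ρ1]; rfl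
    · rw [ρ2 p k, se h p k hp, ρ2 _ (gam h.2 k hp).1]
  have lt : ∀ h : H0, ∀ {p}, p < 275 → h.1 p < 275 := fun h _ => (fx (HG h.2)).lt
  have so : ∀ q < 275, ∀ x ∈ orbit (stabilizer G a) (ρ q), ∃ h : H0, ρ (h.1 q) = x := by
    rintro q hq _ ⟨⟨_, hl⟩, rfl⟩
    obtain ⟨l, rfl⟩ := hr.ge hl
    exact ⟨l, (he l q hq).symm⟩
  have d1 : ρ 1 = d := by simpa using ρ1 1
  have ob := orbit_eq_iff.2 (ρ2 163 le_rfl ▸ sm 163 le_rfl (by norm_num))
  have su : ∀ x, ∃ p < 275, ρ p = x := fun x => by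
    rcases h3 x with rfl | k | k
    · exact ⟨0, by norm_num, ρ0⟩
    · exact (so 163 (by norm_num) x (ob.ge k)).elim fun h k => ⟨_, lt h (by norm_num), k⟩
    · exact (so 1 (by norm_num) x ((orbit_eq_iff.2 (d1 ▸ dm)).ge k)).elim fun h k => ⟨_, lt h (by norm_num), k⟩
  have ij := ((Fintype.bijective_iff_surjective_and_card fun i : Fin 275 => ρ i).2 ⟨fun x => by
    obtain ⟨p, hp, e⟩ := su x; exact ⟨⟨p, hp⟩, e⟩, by rw [hΩ, Fintype.card_fin]⟩).1
  have hi : ∀ p < 275, ∀ q < 275, ρ p = ρ q → p = q := fun p hp q hq h =>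
    congrArg Fin.val (ij (a₁ := ⟨p, hp⟩) (a₂ := ⟨q, hq⟩) h)
  have A0 : ∀ q < 275, Orbital G a b (ρ 0) (ρ q) ↔ adj 0 q := fun q hq => by
    rw [ρ0, Orbital.base, adj0]
    refine ⟨fun k => ?_, fun k => ρ2 q k.1 ▸ sm q k.1 hq⟩
    obtain ⟨h, k⟩ := so 163 (by norm_num) _ (ob.ge k)
    exact hi _ (lt h (by norm_num)) _ hq k ▸ gam h.2 le_rfl (by norm_num)
  have mv : ∀ (h : H0) p q, p < 275 → q < 275 → (Orbital G a b (ρ p) (ρ (h.1⁻¹ q)) ↔ adj p (h.1⁻¹ q)) →
      (Orbital G a b (ρ (h.1 p)) (ρ q) ↔ adj (h.1 p) q) := fun h p q hp hq k => by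
    have l : h.1⁻¹ q < 275 := lt h⁻¹ hq
    rwa [← Orbital.smul (φ h), he h p hp, he h _ l, ← (aut_G (HG h.2)).2 p hp _ l, app_inv] at k
  have sy : ∀ u v, Orbital G a b u v ↔ Orbital G a b v u := fun u v => ⟨.symm t1 t2, .symm t1 t2⟩
  have ir : ∀ p < 275, Orbital G a b (ρ p) (ρ p) ↔ adj p p := fun p hp => iff_of_false
    (fun ⟨_, x, y⟩ => ab (MulAction.injective _ (y.trans x.symm))) fun ⟨g, _, x, y⟩ =>
    absurd (g.injective (x.trans y.symm)) (by norm_num)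
  have nn : ∀ {z : ℕ} {L : List (ℕ × List ℕ)} {u n : ℕ}, z < 275 →
      (∀ e ∈ L, ∀ x ∈ e.2, x ∈ LH ++ slp.map (·.1) ∧ wap tb [x] z = z) → uni mn L = itv u n →
      allSub mn (fun E => cnd (Nat.beq (pop (spr 12 23) E) 112) (Nat.beq E (nb z)) true) L
        (Nat.xor (nb z) (Nat.land (nb z) (itv u n))) = true →
      (∀ p < 275, ¬ (u ≤ p ∧ p < u + n) → (Orbital G a b (ρ z) (ρ p) ↔ adj z p)) →
      ∀ p < 275, Orbital G a b (ρ z) (ρ p) ↔ adj z p := fun {z L u n} hz a1 a2 a3 a4 p hp =>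
    (and_iff_right hp).symm.trans (nb_eq (J := H0 ⊓ stabilizer _ z) (S := fun p => p < 275 ∧ Orbital G a b (ρ z) (ρ p))
      (fun e he x hx => ⟨inH (a1 e he x hx).1, ap1 (a1 e he x hx).2⟩) (fun g hg p k => ⟨lt ⟨g, hg.1⟩ k.1, by
        have := (Orbital.smul (φ ⟨g, hg.1⟩)).2 k.2
        rwa [he _ _ hz, he _ _ k.1, show g z = z from hg.2] at this⟩) hz a2 a3 (fun _ k => k.1) (by
        rw [← hb, ← Orbital.card a b (ρ z)]
        exact Set.ncard_congr (fun p _ => ρ p) (fun _ k => k.2) (fun p q x y => hi p x.1 q y.1) fun v k => by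
          obtain ⟨p, hp, rfl⟩ := su v
          exact ⟨p, ⟨hp, k⟩, rfl⟩) (fun p hp k => (and_iff_right hp).trans (a4 p hp k)) hp)
  have a0 : ∀ p < 275, adj p 0 ↔ adj 0 p := fun p hp => by
    have : ∀ p < 275, (nb p).testBit 0 = (nb 0).testBit p := by decide +kernel
    have a := nb_iff hp 0
    rw [this p hp, nb_iff (by norm_num)] at a
    tauto
  have A1 := nn (z := 1) (L := oK) (u := 2) (n := 161) (by norm_num) (by decide +kernel) (by decide +kernel)
    (by decide +kernel) fun p hp k => by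
    rcases (show p = 0 ∨ p = 1 ∨ 163 ≤ p by omega) with rfl | rfl | k
    · rw [sy, A0 _ (by norm_num), a0 _ (by norm_num)]
    · exact ir _ hp
    · rw [d1, ρ2 p k, ad p k hp]
  have AD : ∀ p, 1 ≤ p → p < 1 + 162 → ∀ q < 275, Orbital G a b (ρ p) (ρ q) ↔ adj p q := fun p u v q hq => by
    obtain ⟨l, hl, rfl⟩ := del.2.2 p u v
    exact mv ⟨l, hl⟩ 1 q (by norm_num) hq (A1 _ (lt (⟨l, hl⟩ : H0)⁻¹ hq))
  have A2 := nn (z := 163) (L := oP) (u := 164) (n := 111) (by norm_num) (by decide +kernel) (by decide +kernel)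
    (by decide +kernel) fun p hp k => by
    rcases (show p = 0 ∨ p = 163 ∨ (1 ≤ p ∧ p < 1 + 162) by omega) with rfl | rfl | k
    · rw [sy, A0 _ (by norm_num), a0 _ (by norm_num)]
    · exact ir _ hp
    · rw [sy, AD p k.1 k.2 _ (by norm_num), adj_sy hp]
  have A : ∀ p < 275, ∀ q < 275, Orbital G a b (ρ p) (ρ q) ↔ adj p q := fun p hp q hq => by
    rcases (show p = 0 ∨ (1 ≤ p ∧ p < 1 + 162) ∨ 163 ≤ p by omega) with rfl | k | k
    · exact A0 q hq
    · exact AD p k.1 k.2 q hq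
    · obtain ⟨l, hl, rfl⟩ := gam2 p k hp
      exact mv ⟨l, hl⟩ 163 q (by norm_num) hq (A2 _ (lt (⟨l, hl⟩ : H0)⁻¹ hq))
  choose ι i1 i2 using su
  let κ : Ω ↪ ℕ := ⟨ι, fun x y h => by rw [← i2 x, h, i2]⟩
  let ψ := (Equiv.Perm.viaEmbeddingHom κ).comp (toPermHom G Ω)
  have hψ : Function.Injective ψ := (Equiv.Perm.viaEmbeddingHom_injective κ).comp toPerm_injective
  have w : ∀ g : G, ∀ p < 275, ψ g p = ι (g • ρ p) := fun g p hp => by
    conv_lhs => rw [← hi _ (i1 _) _ hp (i2 _)]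
    exact Equiv.Perm.viaEmbedding_apply _ κ _
  refine ⟨(MonoidHom.ofInjective hψ).trans (MulEquiv.subgroupCongr (eq_G ?_ ?_))⟩
  · rintro _ ⟨g, rfl⟩
    refine ⟨fun p hp => Equiv.Perm.viaEmbedding_apply_of_notMem _ κ _ ?_, fun p hp q hq => ?_⟩
    · rintro ⟨x, rfl⟩
      exact (i1 x).not_ge hp
    · rw [w g p hp, w g q hq, ← A _ (i1 _) _ (i1 _), i2, i2, Orbital.smul, A p hp q hq]
  · rw [← Nat.card_congr (MonoidHom.ofInjective hψ).toEquiv, ← (stabilizer G a).card_mul_index, cA,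
      index_stabilizer_of_transitive, Nat.card_eq_fintype_card, hΩ]

end Cfsg.Lib.Rk3.Mc
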