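/-
The Rudvalis group on 4060 points: basic facts for the rank 3 recognition.
-/
import Cfsg.Agent.Lib.Rank3.Gen
import Cfsg.Agent.Lib.Comp.RuR.F1

set_option autoImplicit false
set_option maxRecDepth 100000

namespace Cfsg.Lib.Rk3.Rv

open Subgroup MulAction Cfsg.Lib.Comp Cfsg.Lib.Comp.RuR

/-- the whole group. -/
noncomputable abbrev G0 : Subgroup (Equiv.Perm ℕ) := cl (gp rn) LG
/-- the point stabiliser. -/
noncomputable abbrev H0 : Subgroup (Equiv.Perm ℕ) := cl (gp rn) LH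
/-- the two point stabiliser. -/
noncomputable abbrev K0 : Subgroup (Equiv.Perm ℕ) := cl (gp rn) LK

instance finCl (L : List ℕ) : Finite (cl (gp rn) L) := rn_ok.finite L

theorem ap {w : List ℕ} {p q : ℕ} (h : wap tb w q = p) : ev (gp rn) w p = q := by
  rw [← h, wap_eq htb, app_inv]

theorem ap1 {x p q : ℕ} (h : wap tb [x] q = p) : gp rn x p = q := by simpa only [ev_single] using ap h

theorem HG : H0 ≤ G0 := cl_mono (by decide)
theorem KH : K0 ≤ H0 := cl_mono (by decide)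

theorem card_H : Nat.card H0 = 35942400 := a_ex.antisymm' (chainB_le rn_ok _ _) ▸ beq_tt.1 a_ch
theorem card_G : Nat.card G0 = 145926144000 := g_ex.antisymm' (chainB_le rn_ok _ _) ▸ beq_tt.1 g_ch

theorem card_K : Nat.card K0 = 15600 := by
  have : _ = 2304 * Nat.card K0 := (a_ex.cons rn_ok).2.2.2.2.2
  rw [card_H] at this; omega

theorem fix0 {g : Equiv.Perm ℕ} (hg : g ∈ G0) : g 0 = 0 ↔ g ∈ H0 := (g_ex.cons rn_ok).2.2.1 g hg
theorem fix1 {g : Equiv.Perm ℕ} (hg : g ∈ H0) : g 1 = 1 ↔ g ∈ K0 := (a_ex.cons rn_ok).2.2.1 g hg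
theorem h0 {g : Equiv.Perm ℕ} (hg : g ∈ H0) : g 0 = 0 := (fix0 (HG hg)).2 hg

theorem lt {g : Equiv.Perm ℕ} (hg : g ∈ G0) {p : ℕ} (hp : p < 4060) : g p < 4060 := by
  obtain ⟨-, -, -, a, b, -⟩ := g_ex.cons rn_ok
  obtain ⟨k, hk, rfl⟩ := b p (Nat.zero_le _) (by omega)
  simpa using (a _ (mul_mem hg hk)).2

theorem baseH : IsBase H0 (bases aC) := a_ex.isBase rn_ok
theorem baseG : IsBase G0 (bases gC) := g_ex.isBase rn_ok

theorem eqH {u w : List ℕ} {e : ℕ} (h : eqP tb (bases aC) LH u e w = true) : ev (gp rn) u ^ e = ev (gp rn) w :=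
  baseH.eq htb h

theorem one_of_fix {g : Equiv.Perm ℕ} (hg : g ∈ G0) (h : ∀ p < 4060, g p = p) : g = 1 :=
  baseG g hg fun b hb => h b (by revert b; decide)

theorem fixM {p : ℕ} (hp : p < 4060) (h3 : gp rn 3 p = p) (h4 : gp rn 4 p = p) : p = 0 ∨ p = 1 ∨ p = 1002 := by
  simpa using mem_of_fixWB htb fix_M hp (by simp [ev_single, h3, h4])

theorem s_ap : gp rn 6 1 = 1002 ∧ gp rn 6 1002 = 1 ∧ gp rn 6 836 = 985 ∧ gp rn 6 985 = 836 ∧ gp rn 6 2667 = 2667 ∧
    gp rn 6 848 = 988 :=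
  ⟨ap1 (by decide +kernel), ap1 (by decide +kernel), ap1 (by decide +kernel), ap1 (by decide +kernel),
    ap1 (by decide +kernel), ap1 (by decide +kernel)⟩

theorem cent_one {h : Equiv.Perm ℕ} (hh : h ∈ H0) (c3 : Commute h (gp rn 3)) (c4 : Commute h (gp rn 4)) : h = 1 := by
  have f : ∀ p ∈ [1, 1002], h p = 0 ∨ h p = 1 ∨ h p = 1002 := fun p hp =>
    fixM (lt (HG hh) (by revert p; decide)) (fix_of_comm c3 (ap1 (by revert p; decide +kernel)))
      (fix_of_comm c4 (ap1 (by revert p; decide +kernel)))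
  have z := mem_of_fixWB htb fix_z (lt (HG hh) (by norm_num : 985 < 4060)) (by
    simpa only [List.mem_singleton, forall_eq, ev_single] using fix_of_comm c3 (ap1 (by decide +kernel)))
  have c := (commute_ev (γ := gp rn) (w := [4, 3, 4]) (l := h) (by simp [c3, c4])).inv_right
  have ep : h 977 = wap tb [4, 3, 4] (h 985) := by
    rw [wap_eq htb, ← Equiv.Perm.mul_apply, ← c.eq, Equiv.Perm.mul_apply, ← wap_eq htb]
    exact congrArg h (by decide +kernel)
  obtain ⟨a1, -, b1, -⟩ := a1_ex.cons rn_ok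
  obtain ⟨a2, -, b2, -⟩ := a1.cons rn_ok
  obtain ⟨a3, -, b3, c3, -⟩ := a2.cons rn_ok
  obtain ⟨-, -, -, c4, -⟩ := a3.cons rn_ok
  have i := h.injective
  have n0 : ∀ p, p ≠ 0 → h p ≠ 0 := fun p hp e => hp (i (e.trans (h0 hh).symm))
  simp only [List.mem_cons, List.not_mem_nil, or_false] at z
  rcases f 1 (by decide) with e | e | e
  · exact (n0 1 one_ne_zero e).elim
  · have e2 : h 1002 = 1002 := ((f 1002 (by decide)).resolve_left (n0 _ (by norm_num))).resolve_left fun k =>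
      absurd (i (k.trans e.symm)) (by norm_num)
    have := c3 h ((b2 h ((b1 h hh).1 e)).1 e2)
    have e3 : h 985 = 985 := by omega
    refine a1_ex.base rn_ok hh ?_
    rw [e3] at ep
    simpa [bases, e, e2, e3] using ep.trans (by decide +kernel)
  · have e2 : h 1002 = 1 := ((f 1002 (by decide)).resolve_left (n0 _ (by norm_num))).resolve_right fun k =>
      absurd (i (k.trans e.symm)) (by norm_num)
    have m : gp rn 6 * h ∈ H0 := mul_mem (mem_cl (by decide)) hh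
    obtain ⟨s1, s2, s3, s4, s5, s6⟩ := s_ap
    have s0 : gp rn 6 0 = 0 := h0 (mem_cl (by decide))
    have m2 := (b2 _ ((b1 _ m).1 (by rw [Equiv.Perm.mul_apply, e, s2]))).1 (by rw [Equiv.Perm.mul_apply, e2, s1])
    have := c3 _ m2
    rw [Equiv.Perm.mul_apply] at this
    have e3 : h 985 = 836 := by
      rcases z with z | z | z | z | z | z <;> rw [z] at this ⊢ <;> omega
    have := c4 _ ((b3 _ m2).1 (by rw [Equiv.Perm.mul_apply, e3, s3]))
    rw [Equiv.Perm.mul_apply, ep, e3, show wap tb [4, 3, 4] 836 = 848 by decide +kernel] at this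
    omega

theorem center_H : center H0 = ⊥ := eq_bot_iff.2 fun h hh => Subtype.ext (cent_one h.2
  (congrArg Subtype.val (mem_center_iff.1 hh ⟨_, mem_cl (by decide)⟩).symm)
  (congrArg Subtype.val (mem_center_iff.1 hh ⟨_, mem_cl (by decide)⟩).symm))

theorem equiv_of_conj {A B : Subgroup (Equiv.Perm ℕ)} [Finite A] {π : Equiv.Perm ℕ}
    (h : B ≤ A.map (MulAut.conj π).toMonoidHom) (hc : Nat.card A ≤ Nat.card B) : Nonempty (A ≃* B) := by
  obtain ⟨φ, h1, h2⟩ := relabel (MulEquiv.refl A) π h hc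
  exact ⟨(MonoidHom.ofInjective h1).trans (MulEquiv.subgroupCongr h2)⟩

/-- a subgroup fixing a point of an orbit of length its index is a point stabiliser. -/
theorem conj_of_fix {K : Subgroup H0} {b a n p : ℕ} (h1 : ∀ g ∈ H0, a ≤ g b ∧ g b < a + n)
    (h2 : ∀ p, a ≤ p → p < a + n → ∃ g ∈ H0, g b = p) (hK : K.index = n) (p1 : a ≤ p) (p2 : p < a + n)
    (hp : ∀ k ∈ K, k.1 p = p) : ∃ g : H0, ∀ h : H0, g * h * g⁻¹ ∈ K ↔ h.1 b = b := by
  obtain ⟨g, hg, rfl⟩ := h2 p p1 p2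
  have e : orbit H0 (g b) = Set.Ico a (a + n) := Set.ext fun q => ⟨by
    rintro ⟨k, rfl⟩; exact h1 _ (mul_mem k.2 hg), fun hq => by
    obtain ⟨k, hk, rfl⟩ := h2 q hq.1 hq.2
    exact ⟨⟨k * g⁻¹, mul_mem hk (inv_mem hg)⟩, congrArg k (inv_app g b)⟩⟩
  have l : K ≤ stabilizer H0 (g b) := hp
  have i := relIndex_mul_index l
  rw [index_stabilizer, e, Set.ncard_Ico_nat, Nat.add_sub_cancel_left, hK] at i
  have n0 : 0 < n := by omega
  have l2 := relIndex_eq_one.1 (Nat.eq_of_mul_eq_mul_right n0 (i.trans (one_mul n).symm))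
  refine ⟨⟨g, hg⟩, fun h => ?_⟩
  rw [← le_antisymm l2 l, mem_stabilizer_iff]
  change g (h.1 (g⁻¹ (g b))) = g b ↔ _
  rw [inv_app, g.apply_eq_iff_eq]

end Cfsg.Lib.Rk3.Rv
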