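/-
The subgroups of index 2304 and 1755 of the point stabiliser of the Rudvalis group.
-/
import Cfsg.Agent.Lib.Rank3.RuA

set_option autoImplicit false
set_option maxRecDepth 100000

namespace Cfsg.Lib.Rk3.Rv

open Subgroup MulAction Cfsg.Lib.Comp Cfsg.Lib.Comp.RuR Pointwise

theorem fix_norm {x s : Equiv.Perm ℕ} (hs : s ∈ normalizer (zpowers x : Set (Equiv.Perm ℕ)))
    {q : ℕ} (hq : x q = q) : x (s q) = s q :=
  Equiv.Perm.inv_eq_iff_eq.1 ((zpowers_le.2 (show x ∈ stabilizer (Equiv.Perm ℕ) q from hq))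
    ((mem_normalizer_iff''.1 hs x).1 (mem_zpowers x)))

instance finInf {Γ : Type*} [Group Γ] (K X : Subgroup Γ) [Finite K] : Finite ↥(K ⊓ X) :=
  Finite.of_injective _ (inclusion_injective inf_le_left)

theorem sylow_norm {Γ : Type*} [Group Γ] {K X : Subgroup Γ} [Finite K] {p : ℕ} [Fact p.Prime] (hX : X ≤ K)
    (hp : IsPGroup p X) (hi : ¬ p ∣ X.relIndex K) : (normalizer (X : Set Γ)).relIndex K ≡ 1 [MOD p] := by
  have := card_sylow_modEq_one p K
  rw [(hp.comap_subtype.toSylow hi).card_eq_index_normalizer] at this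
  rw [relIndex, subgroupOf_normalizer_eq hX]
  exact this

theorem exists_two {Γ : Type*} [Group Γ] {K W : Subgroup Γ} [Finite K] (hW : W ≤ K) {n : ℕ} (c : Nat.card W = 2 ^ n)
    (hd : 2 ^ (n + 1) ∣ Nat.card K) : ∃ v ∈ K, v ∉ W ∧ v * v ∈ W ∧ v ∈ normalizer (W : Set Γ) := by
  obtain ⟨V, c1, l⟩ := Sylow.exists_subgroup_card_pow_succ hd (H := W.subgroupOf K)
    ((Nat.card_congr (subgroupOfEquivOfLe hW).toEquiv).trans c)
  have l1 : W ≤ V.map K.subtype := fun w hw => ⟨⟨w, hW hw⟩, l hw, rfl⟩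
  have i := (W.subgroupOf (V.map K.subtype)).card_mul_index
  rw [Nat.card_congr (subgroupOfEquivOfLe l1).toEquiv, c, card_map_of_injective (subtype_injective _), c1,
    pow_succ] at i
  have i := Nat.eq_of_mul_eq_mul_left (by positivity) i
  obtain ⟨v, hv⟩ : ∃ v, v ∉ W.subgroupOf (V.map K.subtype) := by
    by_contra! h
    rw [(eq_top_iff' _).2 h, index_top] at i
    omega
  exact ⟨v, map_subtype_le V v.2, hv, mul_self_mem_of_index_two i v,
    (normal_subgroupOf_iff_le_normalizer l1).1 (normal_of_index_eq_two i) v.2⟩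

theorem norm_of_conj {Γ : Type*} [Group Γ] {x s : Γ} [Finite (zpowers x)] (h : s * x * s⁻¹ ∈ zpowers x) :
    s ∈ normalizer (zpowers x : Set Γ) :=
  mem_normalizer_fintype (by rintro _ ⟨k, rfl⟩; simpa only [conj_zpow, SetLike.mem_coe] using zpow_mem h k)

theorem eqP_of_eq {nets : List Net} {tb : ℕ → ℕ → ℕ} (ht : TbA nets tb) {B L u w : List ℕ} {e : ℕ}
    (hu : ∀ x ∈ u, x ∈ L) (hw : ∀ x ∈ w, x ∈ L) (h : ev (gp nets) u ^ e = ev (gp nets) w) : eqP tb B L u e w = true :=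
  cnd_tt.2 ⟨allL_iff.2 fun x hx => (beq_bit _ _).trans (testBit_msk.2 (hu x hx)), cnd_tt.2
    ⟨allL_iff.2 fun x hx => (beq_bit _ _).trans (testBit_msk.2 (hw x hx)), allL_iff.2 fun b _ => beq_tt.2 (by
      rw [witer_eq ht, wap_eq ht, h])⟩⟩

theorem ord_x : orderOf (gp rn 1) = 13 := by
  have : Fact (Nat.Prime 13) := ⟨by norm_num⟩
  refine orderOf_eq_prime (by simpa only [ev_single, ev_nil] using eqH (u := [1]) (w := []) (by decide +kernel)) ?_
  simpa only [ev_single, ev_nil] using ne_of_wap htb (u := [1]) (w := []) (p := 2) (by decide +kernel)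

theorem ord_w : orderOf (gp rn 2) = 2 ^ 2 := by
  refine orderOf_eq_prime_pow ?_ (by simpa only [ev_single, ev_nil] using eqH (u := [2]) (w := []) (by decide +kernel))
  simpa only [ev_cons, ev_nil, mul_one, pow_one, pow_two] using
    ne_of_wap htb (u := [2, 2]) (w := []) (p := 1655) (by decide +kernel)

theorem stab52 : (∀ g ∈ K0, g 1476 = 1476 ↔ g ∈ cl (gp rn) [1, 2]) ∧ (∀ g ∈ K0, 1355 ≤ g 1476) ∧
    Nat.card (cl (gp rn) [1, 2]) = 52 := by
  obtain ⟨-, -, a, b, -, c⟩ := (a2_ex.cons rn_ok).1.cons rn_ok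
  rw [show Nat.card (cl (gp rn) [1, 2, 3, 4, 5]) = _ from card_K] at c
  exact ⟨a, fun g hg => (b g hg).1, by omega⟩

theorem fix52 {p : ℕ} (hp : p ∈ [1, 1476, 1055]) : cl (gp rn) [1, 2] ≤ stabilizer (Equiv.Perm ℕ) p :=
  cl_le.2 fun x hx => ap1 (by revert x p; decide +kernel)

theorem normF {s : Equiv.Perm ℕ} (hs : s ∈ H0 ⊓ normalizer (zpowers (gp rn 1) : Set (Equiv.Perm ℕ))) {q : ℕ}
    (hq : q ∈ [1, 1476, 1055]) : s q ∈ [1, 1476, 1055] :=
  (List.mem_cons.1 (mem_of_fixWB htb fix_x (lt (HG hs.1) (by revert q; decide)) (by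
    simpa only [List.mem_singleton, forall_eq, ev_single] using
      fix_norm hs.2 (fix52 hq (mem_cl (by decide)))))).resolve_left fun e =>
    absurd (s.injective (e.trans (h0 hs.1).symm) ▸ hq) (by decide)

theorem cube {g : Equiv.Perm ℕ} (hg : g ∈ H0) (h : ∀ q ∈ [1, 1476, 1055], g q ∈ [1, 1476, 1055]) :
    (g 1 = 1 → g 1476 = 1476) ∧ (g ^ 3) 1 = 1 := by
  have a : ∀ g ∈ H0, g 1476 ∈ [1, 1476, 1055] → g 1 = 1 → g 1476 = 1476 := fun g hg h e => by
    have := stab52.2.1 g ((fix1 hg).1 e)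
    simp only [List.mem_cons, List.not_mem_nil, or_false] at h
    omega
  refine ⟨a g hg (h _ (by decide)), ?_⟩
  have r1 : gp rn 7 1 = 1476 := ap1 (by decide +kernel)
  have r2 : gp rn 7 1476 = 1055 := ap1 (by decide +kernel)
  have r3 : gp rn 7 1055 = 1 := ap1 (by decide +kernel)
  have m : gp rn 7 ∈ H0 := mem_cl (by decide)
  have a1 := a _ (mul_mem m hg)
  have a2 := a _ (mul_mem m (mul_mem m hg))
  have i := g.injective
  simp only [List.mem_cons, List.not_mem_nil, or_false, forall_eq_or_imp, forall_eq, Equiv.Perm.mul_apply,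
    pow_succ, pow_zero, one_mul] at h a1 a2 ⊢
  obtain ⟨h1, h2, h3⟩ := h
  rcases h1 with h1 | h1 | h1 <;> rcases h2 with h2 | h2 | h2 <;> rcases h3 with h3 | h3 | h3 <;>
    first
    | (simp only [h1, h2, h3]; done)
    | exact absurd (i (h1.trans h2.symm)) (by norm_num)
    | exact absurd (i (h1.trans h3.symm)) (by norm_num)
    | exact absurd (i (h2.trans h3.symm)) (by norm_num)
    | (simp [h1, h2, r1, r2, r3] at a1 a2)

theorem le52 {K : Subgroup (Equiv.Perm ℕ)} (hK : K ≤ H0) (c : Nat.card K = 15600) (hx : gp rn 1 ∈ K) :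
    cl (gp rn) [1, 2] ≤ K := by
  have : Fact (Nat.Prime 13) := ⟨by norm_num⟩
  have : Finite K := Finite.of_injective _ (inclusion_injective hK)
  have l := zpowers_le.2 hx
  have cx : Nat.card (zpowers (gp rn 1)) = 13 := (Nat.card_zpowers _).trans ord_x
  have i := ((zpowers (gp rn 1)).subgroupOf K).card_mul_index
  rw [Nat.card_congr (subgroupOfEquivOfLe l).toEquiv, cx, c] at i
  have j := sylow_norm l (IsPGroup.of_card (p := 13) (n := 1) cx) (by rw [relIndex, show Subgroup.index _ = 1200 by omega]; norm_num)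
  have k := ((normalizer (zpowers (gp rn 1) : Set (Equiv.Perm ℕ))).subgroupOf K).card_mul_index
  rw [Golay.card_subgroupOf, c] at k
  obtain ⟨m, hm⟩ := card_dvd_of_le (le_inf l le_normalizer)
  have b := (card_inf_le rn_ok (fun s hs q hq _ => normF hs hq) a2_ex).trans cen_x
  rw [← inf_assoc, inf_idem] at b
  replace b := (card_le_of_le (inf_le_inf_right _ hK)).trans b
  rw [cx] at hm
  have c52 : Nat.card ↥(K ⊓ normalizer (zpowers (gp rn 1) : Set (Equiv.Perm ℕ))) = 52 := by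
    rw [relIndex, Nat.ModEq] at j
    rw [hm] at b k ⊢
    have : m ≤ 12 := by omega
    interval_cases m <;> omega
  refine (eq_of_le_of_card_ge (fun g hg => ?_) (stab52.2.2.trans c52.symm).le).ge.trans inf_le_left
  obtain ⟨d, e⟩ := cube (hK hg.1) fun q hq => normF ⟨hK hg.1, hg.2⟩ hq
  have f : g ^ 52 = 1 := c52 ▸ congrArg Subtype.val (pow_card_eq_one' (x := (⟨g, hg⟩ : ↥(K ⊓ _))))
  have f1 : g 1 = 1 := by
    have := pow_mem (show g ^ 3 ∈ stabilizer (Equiv.Perm ℕ) 1 from e) 17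
    rw [← pow_mul, eq_inv_of_mul_eq_one_left ((pow_succ g _).symm.trans f), inv_mem_iff] at this
    exact this
  exact (stab52.1 g ((fix1 (hK hg.1)).1 f1)).1 (d f1)

theorem pw : ∀ u ∈ P2, ev (gp rn) u ∈ zpowers (gp rn 2) := fun u hu => ev_mem fun x hx =>
  (show x = 2 by revert x u; decide) ▸ mem_zpowers _

theorem card_w : Nat.card (zpowers (gp rn 2)) = 2 ^ 2 := (Nat.card_zpowers _).trans ord_w

instance fin_w : Finite (zpowers (gp rn 2)) := Nat.finite_of_card_ne_zero (by rw [card_w]; norm_num)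

theorem memN {v : Equiv.Perm ℕ} (hv : v ∈ H0 ⊓ normalizer (zpowers (gp rn 2) : Set (Equiv.Perm ℕ))) :
    ∃ e ∈ WN, ev (gp rn) e.1 = v := by
  have n : ∀ x ∈ [2, 7, 8], gp rn x ∈ H0 ⊓ normalizer (zpowers (gp rn 2) : Set (Equiv.Perm ℕ)) := fun x hx => by
    refine ⟨mem_cl (by revert x; decide), ?_⟩
    obtain ⟨u, hu, e⟩ : ∃ u ∈ P2, eqP tb (bases aC) LH [x, 2] 1 (u ++ [x]) = true := by revert x; decide +kernel
    have e := eqH e
    rw [pow_one, ev_append, ev_cons, ev_single, ev_single, ← mul_inv_eq_iff_eq_mul] at e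
    exact norm_of_conj (e ▸ pw u hu)
  have f : ∀ q ∈ Fw, q < 4060 ∧ wap tb [2] q = q := by decide +kernel
  have b := card_inf_le rn_ok (S := H0 ⊓ normalizer (zpowers (gp rn 2) : Set (Equiv.Perm ℕ))) (fun s hs q hq _ =>
    mem_of_fixWB htb fix_w (lt (HG hs.1) (f q hq).1) (by
      simpa only [List.mem_singleton, forall_eq, ev_single] using fix_norm hs.2 (ap1 (f q hq).2))) a_ex
  rw [← inf_assoc, inf_idem] at b
  obtain ⟨_, hu, rfl⟩ := mem_of_list htb _
    (List.forall_mem_map.2 fun e he => ev_mem fun x hx => n x (sub_of_subB (allL_iff.1 sub_N e he) x hx)) nd_N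
    (len_N ▸ b.trans cen_w) hv
  obtain ⟨e, he, rfl⟩ := List.mem_map.1 hu
  exact ⟨e, he, rfl⟩

theorem fixK {K : Subgroup (Equiv.Perm ℕ)} (hK : K ≤ H0) (c : Nat.card K = 15600) (hx : gp rn 1 ∈ K) :
    ∃ p ∈ [1, 1476, 1055], ∀ k ∈ K, k p = p := by
  have : Finite K := Finite.of_injective _ (inclusion_injective hK)
  have l := le52 hK c hx
  obtain ⟨v, v1, v2, v3, v4⟩ := exists_two (zpowers_le.2 (l (mem_cl (x := 2) (by decide)))) card_w (by rw [c]; norm_num)
  obtain ⟨⟨u, p, f, ops⟩, he, rfl⟩ := memN ⟨hK v1, v4⟩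
  have k := allL_iff.1 chk_N _ he
  have su := sub_of_subB (allL_iff.1 sub_N _ he)
  have o : ∀ J : Subgroup (Equiv.Perm ℕ), cl (gp rn) [1, 2] ≤ J → ev (gp rn) u ∈ J →
      ∀ w ∈ ops.map (nth [] [[1], [2], u]), ev (gp rn) w ∈ J := fun J a b => List.forall_mem_map.2 fun i _ => by
    rcases i with _ | _ | _ | i
    exacts [a (ev_mem (w := [1]) fun _ h => mem_cl (by revert h; simp +contextual)),
      a (ev_mem (w := [2]) fun _ h => mem_cl (by revert h; simp +contextual)), b, one_mem J]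
  obtain ⟨y, hy, e⟩ := mem_of_list htb [1655] pw (by decide +kernel) card_w.le v3
  have k1 : allL P2 (fun v => cnd (eqP tb (bases aC) LH u 1 v) false true) = true := allL_iff.2 fun z hz => by
    rw [cnd_eq, if_neg fun h => v2 (by rw [← pow_one (ev _ u), eqH h]; exact pw z hz)]
  have k2 : allL P2 (fun v => cnd (eqP tb (bases aC) LH u 2 v) false true) = false := by
    refine Bool.eq_false_iff.2 fun h => ?_
    have := allL_iff.1 h y hy
    rw [eqP_of_eq htb (fun x hx => (by decide : ∀ x ∈ [2, 7, 8], x ∈ LH) x (su x hx))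
      ((by decide : ∀ y ∈ P2, ∀ x ∈ y, x ∈ LH) y hy) ((pow_two _).trans e.symm)] at this
    cases this
  rw [chkN, k1, k2, cnd_true, cnd_false, cnd_tt, decide_eq_true_eq, cnd_eq] at k
  dsimp only at k v1 v2
  obtain ⟨k3, k⟩ := k
  split_ifs at k with h
  · have := orbN_le rn_ok l (o K l v1) (fix52 k3) 4060
    rw [ble_tt] at k
    rw [stab52.2.2, c] at this
    omega
  · rw [cnd_tt, cnd_tt, decide_eq_true_eq, beq_tt, ble_tt] at k
    have a := le_inf l (fix52 k.1)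
    have := orbN_le rn_ok a (o _ a ⟨v1, ap k.2.1⟩) (fix52 k3) 4060
    rw [stab52.2.2] at this
    exact ⟨f, k.1, fun g hg => ((eq_of_le_of_card_ge (inf_le_left (b := stabilizer _ f)) (by omega)).ge hg).2⟩

theorem card_L : (∀ g ∈ H0, g 2305 = 2305 → g 2306 = 2306 → g ∈ cl (gp rn) [9, 10, 11]) ∧
    (∀ g ∈ cl (gp rn) [9, 10, 11], g 2306 = 2306) ∧ Nat.card (cl (gp rn) [9, 10, 11]) = 2 ^ 11 := by
  obtain ⟨a, -, b, -, -, c⟩ := b_ex.cons rn_ok
  obtain ⟨-, -, d, -, -, e⟩ := a.cons rn_ok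
  rw [card_H] at c
  exact ⟨fun g hg p q => (d g ((b g hg).1 p)).1 q, fun g hg => (d g (cl_mono (by decide) hg)).2 hg, by omega⟩

theorem S_le : cl (gp rn) [9, 10, 11, 12] ≤
    H0 ⊓ (stabilizer (Equiv.Perm ℕ) 2305 ⊓ stabilizer (Equiv.Perm ℕ) ({2306, 2307} : Set ℕ)) :=
  cl_le.2 fun x hx => ⟨mem_cl (by revert x; decide), ap1 (by revert x; decide +kernel), by
    change _ • _ = _
    rw [Set.smul_set_insert, Set.smul_set_singleton, Set.pair_eq_pair_iff]
    exact (show wap tb [x] 2306 = 2306 ∧ wap tb [x] 2307 = 2307 ∨ wap tb [x] 2307 = 2306 ∧ wap tb [x] 2306 = 2307 by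
      revert x; decide +kernel).imp (And.imp ap1 ap1) (And.imp ap1 ap1)⟩

theorem S_two : IsPGroup 2 (cl (gp rn) [9, 10, 11, 12]) := fun g => ⟨12, Subtype.ext (by
  obtain ⟨a, b, c⟩ := S_le g.2
  change _ • _ = _ at c
  rw [Set.smul_set_insert, Set.smul_set_singleton, Set.pair_eq_pair_iff] at c
  have m := card_L.1 _ (mul_mem a a) (mul_mem b b : _ ∈ stabilizer _ _) (by
    rcases c with c | c
    · exact (congrArg g.1 c.1).trans c.1
    · exact (congrArg g.1 c.1).trans c.2)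
  have := congrArg Subtype.val (pow_card_eq_one' (x := (⟨_, m⟩ : cl (gp rn) [9, 10, 11])))
  rw [card_L.2.2] at this
  rw [pow_succ', coe_pow, pow_mul, pow_two]
  exact this)⟩

theorem fixP {P : Subgroup (Equiv.Perm ℕ)} (hP : P ≤ H0) (c : Nat.card P = 20480) (hS : cl (gp rn) [9, 10, 11, 12] ≤ P) :
    ∀ k ∈ P, k 2305 = 2305 := by
  have : Finite P := Finite.of_injective _ (inclusion_injective hP)
  have y : gp rn 12 ∈ cl (gp rn) [9, 10, 11, 12] := mem_cl (by decide)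
  have y1 : gp rn 12 2306 = 2307 := ap1 (by decide +kernel)
  have y2 : gp rn 12 2307 = 2306 := ap1 (by decide +kernel)
  have c1 := orb_mul_le (G := cl (gp rn) [9, 10, 11, 12]) (cl_mono (by decide)) card_L.2.1 (D := [2306, 2307]) (by decide)
    (by simpa using ⟨⟨1, one_mem _, rfl⟩, _, y, y1⟩)
  rw [card_L.2.2] at c1
  have o : ∀ k ∈ P, k 2305 = 2305 ∨ k 2305 = 2306 ∨ k 2305 = 2307 := fun k hk => by
    have b := (b_ex.cons rn_ok).2.2.2.1 k (hP hk)
    by_contra hn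
    have d := ble_tt.1 (allN_iff.1 big_S (k 2305 - 2308) (by omega))
    have := orb_mul_le hS (fun s hs => (S_le hs).2.1) (List.nodup_dedup (WS.map fun u =>
      wap tb u (Nat.add 2308 (k 2305 - 2308)))) fun p hp => by
        obtain ⟨u, hu, rfl⟩ := List.mem_map.1 (List.mem_dedup.1 hp)
        refine ⟨(ev (gp rn) u)⁻¹ * k, mul_mem (inv_mem (hS (ev_mem fun x hx => mem_cl (by clear hp; revert x u; decide)))) hk, ?_⟩
        rw [wap_eq htb, Equiv.Perm.mul_apply]
        exact congrArg _ (by simp only [Nat.add_eq]; omega)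
    have := (Nat.mul_le_mul d c1).trans this
    simp only [List.length_cons, List.length_nil] at this
    omega
  intro k hk
  by_contra hn
  have m : ∃ k ∈ P, k 2305 = 2306 := by
    rcases (o k hk).resolve_left hn with h | h
    exacts [⟨k, hk, h⟩, ⟨_, mul_mem (hS y) hk, (congrArg _ h).trans y2⟩]
  obtain ⟨k, hk, e⟩ := m
  have : orbit P 2305 = {2305, 2306, 2307} := Set.ext fun q => ⟨by rintro ⟨g, rfl⟩; exact o g g.2, by
    rintro (rfl | rfl | rfl)
    exacts [mem_orbit_self _, ⟨⟨k, hk⟩, e⟩, ⟨⟨_, mul_mem (hS y) hk⟩, (congrArg (gp rn 12) e).trans y1⟩]⟩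
  have d := (stabilizer P 2305).index_dvd_card
  rw [index_stabilizer, this, c, Set.ncard_eq_three.2 ⟨_, _, _, by norm_num, by norm_num, by norm_num, rfl⟩] at d
  norm_num at d

theorem conj_stab {K : Subgroup H0} {b a n r : ℕ} [Fact r.Prime] (h1 : ∀ g ∈ H0, a ≤ g b ∧ g b < a + n)
    (h2 : ∀ p, a ≤ p → p < a + n → ∃ g ∈ H0, g b = p) (hK : K.index = n) {Q : Subgroup (Equiv.Perm ℕ)}
    (hQ : IsPGroup r Q) (hn : ¬ r ∣ n) (hH : Q ≤ H0) (hf : ∀ J ≤ H0, Nat.card J * n = 35942400 → Q ≤ J →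
      ∃ p, a ≤ p ∧ p < a + n ∧ ∀ k ∈ J, k p = p) : ∃ g : H0, ∀ h : H0, g * h * g⁻¹ ∈ K ↔ h.1 b = b := by
  obtain ⟨g, hg⟩ := exists_conj_le (hQ.comap_subtype (K := H0)) (hK ▸ hn)
  have i := (K.index_comap_of_surjective (f := (MulAut.conj g⁻¹).toMonoidHom) (MulEquiv.surjective _)).trans hK
  obtain ⟨p, p1, p2, p3⟩ := hf ((K.comap (MulAut.conj g⁻¹).toMonoidHom).map H0.subtype) (map_subtype_le _)
    (by rw [card_map_of_injective (subtype_injective _), ← card_H, ← i, card_mul_index])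
    fun q hq => ⟨⟨q, hH hq⟩, by simpa using hg ⟨q, hH hq⟩ hq, rfl⟩
  obtain ⟨k, hk⟩ := conj_of_fix h1 h2 i p1 p2 fun k hk => p3 _ ⟨k, hk, rfl⟩
  exact ⟨g⁻¹ * k, fun h => by simpa [mul_assoc] using hk h⟩

theorem conjK {K : Subgroup H0} (hK : K.index = 2304) : ∃ g : H0, ∀ h : H0, g * h * g⁻¹ ∈ K ↔ h.1 1 = 1 := by
  have : Fact (Nat.Prime 13) := ⟨by norm_num⟩
  obtain ⟨-, -, -, a, b, -⟩ := a_ex.cons rn_ok
  refine conj_stab a b hK (IsPGroup.of_card (p := 13) (n := 1) ((Nat.card_zpowers _).trans ord_x)) (by norm_num)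
    (zpowers_le.2 (mem_cl (by decide))) fun J a b c => ?_
  obtain ⟨p, hp, h⟩ := fixK a (by omega) (zpowers_le.1 c)
  exact ⟨p, by clear h; revert p; decide, by clear h; revert p; decide, h⟩

theorem conjP {K : Subgroup H0} (hK : K.index = 1755) : ∃ g : H0, ∀ h : H0, g * h * g⁻¹ ∈ K ↔ h.1 2305 = 2305 := by
  obtain ⟨-, -, -, a, b, -⟩ := b_ex.cons rn_ok
  exact conj_stab a b hK S_two (by norm_num) (cl_mono (by decide)) fun J a b c =>
    ⟨2305, le_rfl, by norm_num, fixP a (by omega) c⟩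

end Cfsg.Lib.Rk3.Rv
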