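/-
The amalgam of a rank 3 group on 4060 points with point stabiliser `²F₄(2)`.
-/
import Cfsg.Agent.Lib.Rank3.RuB
import Cfsg.Agent.Lib.Comp.RuK.Out

set_option autoImplicit false
set_option maxRecDepth 100000

namespace Cfsg.Lib.Rk3.Rv

open Subgroup MulAction Cfsg.Lib.Comp Cfsg.Lib.Comp.RuR

/-- the generators as elements. -/
noncomputable def el (x : ℕ) (hx : x ∈ LH := by decide) : H0 := ⟨gp rn x, mem_cl hx⟩

theorem t_ap : gp rn 14 0 = 1 ∧ gp rn 14 1 = 0 ∧ gp rn 14 1002 = 1002 :=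
  ⟨ap1 (by decide +kernel), ap1 (by decide +kernel), ap1 (by decide +kernel)⟩

theorem t_sq : gp rn 14 * gp rn 14 = 1 := by
  simpa only [ev_single, ev_nil, pow_two] using baseG.eq htb (u := [14]) (e := 2) (w := []) (by decide +kernel)

theorem s_sq : gp rn 6 * gp rn 6 = 1 := by
  simpa only [ev_single, ev_nil, pow_two] using eqH (u := [6]) (e := 2) (w := []) (by decide +kernel)

theorem st_cube : gp rn 6 * gp rn 14 * (gp rn 6 * gp rn 14 * (gp rn 6 * gp rn 14)) = 1 := by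
  simpa only [ev_cons, ev_nil, pow_succ, pow_zero, one_mul, mul_one, mul_assoc] using
    baseG.eq htb (u := [6, 14]) (e := 3) (w := []) (by decide +kernel)

theorem braid {Γ : Type*} [Group Γ] {s t : Γ} (hs : s * s = 1) (ht : t * t = 1) (h : s * t * (s * t * (s * t)) = 1) :
    t * s = s * (t * (s * t)) :=
  calc _ = (t * s) * (s * t * (s * t * (s * t))) := by rw [h, mul_one]
    _ = t * (s * s) * t * (s * (t * (s * t))) := by group
    _ = _ := by rw [hs, mul_one, ht, one_mul]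

theorem tG : gp rn 14 ∈ G0 := mem_cl (by decide)

section
variable {G Ω : Type*} [Group G] [MulAction G Ω] {φ : H0 →* G} {ρ : ℕ → Ω} (hφ : Function.Injective φ)
  (hr : φ.range = stabilizer G (ρ 0)) (he : ∀ h : H0, ∀ p < 4060, φ h • ρ p = ρ (h.1 p))
  (hi : ∀ p < 4060, ∀ q < 4060, ρ p = ρ q → p = q) (hs : ∀ u : G, ∀ p < 4060, ∃ q < 4060, u • ρ p = ρ q)

/-- `a` acts on the stabiliser of three points like `b`. -/
def Q (φ : H0 →* G) (a : G) (b : Equiv.Perm ℕ) : Prop := ∀ m : H0, m.1 1 = 1 → m.1 1002 = 1002 →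
  ∃ n : H0, n.1 1 = 1 ∧ n.1 1002 = 1002 ∧ a * φ m = φ n * a ∧ b * m.1 = n.1 * b

theorem Q.mul {a a' : G} {b b' : Equiv.Perm ℕ} (h : Q φ a b) (h' : Q φ a' b') : Q φ (a * a') (b * b') := fun m p q => by
  obtain ⟨n, p, q, e, f⟩ := h' m p q
  obtain ⟨l, p, q, e', f'⟩ := h n p q
  exact ⟨l, p, q, by rw [mul_assoc, e, ← mul_assoc, e', mul_assoc], by rw [mul_assoc, f, ← mul_assoc, f', mul_assoc]⟩

theorem fixed_M : ∀ x ∈ [3, 4], gp rn x 1 = 1 ∧ gp rn x 1002 = 1002 := fun x hx =>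
  ⟨ap1 (by revert x; decide +kernel), ap1 (by revert x; decide +kernel)⟩

theorem Q.comm {a : G} (h : Q φ a 1) (m : H0) (p : m.1 1 = 1) (q : m.1 1002 = 1002) : Commute a (φ m) := by
  obtain ⟨n, -, -, e, f⟩ := h m p q
  rw [show m = n from Subtype.ext (by simpa using f)] at e ⊢
  exact e

include hφ hr in
theorem Q.one {a : G} (h : Q φ a 1) (ha : a • ρ 0 = ρ 0) : a = 1 := by
  obtain ⟨l, rfl⟩ := hr.ge ha
  have c : ∀ x (hx : x ∈ LH), x ∈ [3, 4] → Commute l.1 (gp rn x) := fun x hx k =>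
    congrArg Subtype.val (hφ (a₁ := l * el x hx) (a₂ := el x hx * l) (by
      simpa only [map_mul] using (h.comm (el x hx) (fixed_M x k).1 (fixed_M x k).2).eq))
  rw [show l = 1 from Subtype.ext (cent_one l.2 (c 3 (by decide) (by decide)) (c 4 (by decide) (by decide))), map_one]

theorem Q_s : Q φ (φ (el 6)) (gp rn 6) := fun m p q => by
  have i : (gp rn 6)⁻¹ = gp rn 6 := inv_eq_of_mul_eq_one_right s_sq
  refine ⟨el 6 * m * (el 6)⁻¹, ?_, ?_, by simp, by simp [el]⟩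
  · change gp rn 6 (m.1 ((gp rn 6)⁻¹ 1)) = 1
    rw [i, s_ap.1, q, s_ap.2.1]
  · change gp rn 6 (m.1 ((gp rn 6)⁻¹ 1002)) = 1002
    rw [i, s_ap.2.1, p, s_ap.1]

include he hi hs in
theorem fix_d {t : G} (h1 : t • ρ 0 = ρ 1) (h2 : t • ρ 1 = ρ 0)
    (ht : ∀ n : H0, n.1 1 = 1 → n.1 1002 = 1002 → ∃ m : H0, m.1 1002 = 1002 ∧ φ n * t = t * φ m) :
    t • ρ 1002 = ρ 1002 := by
  obtain ⟨q, hq, e⟩ := hs t 1002 (by norm_num)
  have c : ∀ x (hx : x ∈ LH), x ∈ [3, 4] → gp rn x q = q := fun x hx k => by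
    obtain ⟨m, p, f⟩ := ht (el x hx) (fixed_M x k).1 (fixed_M x k).2
    refine hi _ (lt (HG (mem_cl hx)) hq) _ hq ((he (el x hx) q hq).symm.trans ?_)
    rw [← e, ← mul_smul, f, mul_smul, he _ _ (by norm_num), p]
  rcases fixM hq (c 3 (by decide) (by decide)) (c 4 (by decide) (by decide)) with rfl | rfl | rfl
  · exact absurd (hi _ (by norm_num) _ (by norm_num) (MulAction.injective t (e.trans h2.symm))) (by norm_num)
  · exact absurd (hi _ (by norm_num) _ (by norm_num) (MulAction.injective t (e.trans h1.symm))) (by norm_num)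
  · exact e

include hφ hr he hi hs in
theorem no_inner {u : G} (h1 : u • ρ 0 = ρ 1) (h2 : u • ρ 1 = ρ 0) (hu : ∀ k : H0, k.1 1 = 1 → Commute u (φ k)) :
    False := by
  have d := fix_d he hi hs h1 h2 fun n p q => ⟨n, q, (hu n p).eq.symm⟩
  have q1 : Q φ u 1 := fun m p q => ⟨m, p, q, hu m p, by simp⟩
  have q2 : Q φ u⁻¹ 1 := fun m p q => ⟨m, p, q, (hu m p).inv_left, by simp⟩
  have q := q1.mul ((Q_s.mul (q1.mul Q_s)).mul q2)
  rw [one_mul, one_mul, mul_one, s_sq] at q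
  have s0 : (el 6).1 0 = 0 := h0 (el 6).2
  have s1 : (el 6).1 1 = 1002 := s_ap.1
  have s2 : (el 6).1 1002 = 1 := s_ap.2.1
  have := congrArg (· • ρ 1) (q.one hφ hr (by
    rw [mul_smul, mul_smul, mul_smul, mul_smul, inv_smul_eq_iff.2 h2.symm, he _ _ (by norm_num), s1, d,
      he _ _ (by norm_num), s2, h2]))
  simp only [mul_smul, one_smul] at this
  rw [inv_smul_eq_iff.2 h1.symm, he _ _ (by norm_num), s0, h1, he _ _ (by norm_num), s1, d] at this
  exact absurd (hi _ (by norm_num) _ (by norm_num) this) (by norm_num)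

include hφ hr he hi hs in
theorem exists_outer {t : G} (h1 : t • ρ 0 = ρ 1) (h2 : t • ρ 1 = ρ 0) :
    ∃ τ : MulAut K0, τ ∉ Inn _ ∧ ∀ k, φ (inclusion KH (τ k)) = t * φ (inclusion KH k) * t⁻¹ := by
  let ψ := φ.comp (inclusion KH)
  have r : ∀ g, g ∈ ψ.range ↔ g • ρ 0 = ρ 0 ∧ g • ρ 1 = ρ 1 := fun g => ⟨by
    rintro ⟨k, rfl⟩
    exact ⟨hr.le ⟨_, rfl⟩, (he _ _ (by norm_num)).trans (congrArg ρ ((fix1 (KH k.2)).2 k.2))⟩, fun h => by
    obtain ⟨k, rfl⟩ := hr.ge h.1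
    exact ⟨⟨k, (fix1 k.2).1 (hi _ (lt (HG k.2) (by norm_num)) _ (by norm_num)
      ((he _ _ (by norm_num)).symm.trans h.2))⟩, rfl⟩⟩
  obtain ⟨τ, hτ⟩ := exists_aut (ψ := ψ) (hφ.comp (inclusion_injective _)) (t := t) fun g => by
    have i1 : t⁻¹ • ρ 1 = ρ 0 := inv_smul_eq_iff.2 h1.symm
    have i2 : t⁻¹ • ρ 0 = ρ 1 := inv_smul_eq_iff.2 h2.symm
    rw [r, r, mul_smul, mul_smul, mul_smul, mul_smul, i1, i2, ← eq_inv_smul_iff (g := t),
      ← eq_inv_smul_iff (g := t), i1, i2, and_comm]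
  refine ⟨τ, ?_, hτ⟩
  rintro ⟨k, rfl⟩
  have k1 := (r _).1 ⟨k⁻¹, rfl⟩
  refine no_inner hφ hr he hi hs (u := t * ψ k⁻¹) (by rw [mul_smul, k1.1, h1]) (by rw [mul_smul, k1.2, h2]) fun l hl => ?_
  have := hτ (k⁻¹ * ⟨l, (fix1 l.2).1 hl⟩ * k)
  simp only [MulAut.conj_apply, map_mul, map_inv] at this
  rw [map_inv, Commute, SemiconjBy, ← mul_inv_eq_iff_eq_mul, show φ l = ψ ⟨l, (fix1 l.2).1 hl⟩ from rfl]
  calc _ = t * ((ψ k)⁻¹ * ψ ⟨l, (fix1 l.2).1 hl⟩ * ψ k) * t⁻¹ := by group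
    _ = _ := by rw [← this]; group

end

theorem model_outer : ∃ σ : MulAut K0, σ ∉ Inn _ ∧ ∀ k, (σ k).1 = gp rn 14 * k.1 * (gp rn 14)⁻¹ := by
  obtain ⟨σ, a, b⟩ := exists_outer (G := G0) (φ := inclusion HG) (ρ := id) (inclusion_injective _)
    (by ext g; rw [inclusion_range]; exact (fix0 g.2).symm) (fun _ _ _ => rfl) (fun _ _ _ _ h => h)
    (fun u p hp => ⟨_, lt u.2 hp, rfl⟩) (t := ⟨_, tG⟩) t_ap.1 t_ap.2.1
  exact ⟨σ, a, fun k => congrArg Subtype.val (b k)⟩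

theorem out_K : Nat.card (Out K0) = 2 := by
  have := Rux.nets_ok.finite RuM.M2
  obtain ⟨e⟩ := equiv_of_conj cjK (RuK.card.trans card_K.symm).le
  exact RuK.out_eq e.symm

section
variable {G Ω : Type*} [Group G] [MulAction G Ω] {φ : H0 →* G} {ρ : ℕ → Ω} (hφ : Function.Injective φ)
  (hr : φ.range = stabilizer G (ρ 0)) (he : ∀ h : H0, ∀ p < 4060, φ h • ρ p = ρ (h.1 p))
  (hi : ∀ p < 4060, ∀ q < 4060, ρ p = ρ q → p = q) (hs : ∀ u : G, ∀ p < 4060, ∃ q < 4060, u • ρ p = ρ q)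

include hφ hr he hi hs in
theorem exists_t {u : G} (h1 : u • ρ 0 = ρ 1) (h2 : u • ρ 1 = ρ 0) : ∃ t : G, t • ρ 0 = ρ 1 ∧ t • ρ 1 = ρ 0 ∧
    ∀ k : H0, k.1 1 = 1 → ∃ l : H0, t * φ k = φ l * t ∧ gp rn 14 * k.1 = l.1 * gp rn 14 := by
  obtain ⟨τ, a, b⟩ := exists_outer hφ hr he hi hs h1 h2
  obtain ⟨σ, c, d⟩ := model_outer
  obtain ⟨k, hk⟩ := out_two out_K c a
  refine ⟨u * φ (inclusion KH k), by rw [mul_smul, he _ _ (by norm_num), h0 (inclusion KH k).2, h1],
    by rw [mul_smul, he _ _ (by norm_num), (fix1 (inclusion KH k).2).2 k.2, h2], fun l hl =>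
    ⟨inclusion KH (σ ⟨l, (fix1 l.2).1 hl⟩), ?_, eq_mul_of_mul_inv_eq (d ⟨l, (fix1 l.2).1 hl⟩).symm⟩⟩
  rw [hk, b, map_mul, map_mul, map_mul, map_mul, map_inv, map_inv, show inclusion KH ⟨l, (fix1 l.2).1 hl⟩ = l from rfl]
  group

include hφ hr he hi hs in
theorem exists_full {u : G} (h1 : u • ρ 0 = ρ 1) (h2 : u • ρ 1 = ρ 0) :
    ∃ t : G, ∀ p < 4060, t • ρ p = ρ (gp rn 14 p) := by
  obtain ⟨t, h1, h2, h3⟩ := exists_t hφ hr he hi hs h1 h2
  obtain ⟨t0, t1, t2⟩ := t_ap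
  have tt : ∀ p, gp rn 14 (gp rn 14 p) = p := fun p => by rw [← Equiv.Perm.mul_apply, t_sq]; rfl
  have q : Q φ t (gp rn 14) := fun m p q => by
    obtain ⟨l, a, b⟩ := h3 m p
    have := fun x => congrArg (· x) b
    simp only [Equiv.Perm.mul_apply] at this
    exact ⟨l, by rw [← t0, ← this, h0 m.2], by rw [← t2, ← this, q], a, b⟩
  have sq : t * t = 1 := (t_sq ▸ q.mul q).one hφ hr (by rw [mul_smul, h1, h2])
  have d : t • ρ 1002 = ρ 1002 := fix_d he hi hs h1 h2 fun n a b => by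
    obtain ⟨m, -, c, e, -⟩ := q n a b
    refine ⟨m, c, ?_⟩
    rw [← one_mul (φ n * t), ← sq, mul_assoc, ← mul_assoc t (φ n), e, mul_assoc, sq, mul_one]
  have s0 : (el 6).1 0 = 0 := h0 (el 6).2
  have s1 : (el 6).1 1 = 1002 := s_ap.1
  have s2 : (el 6).1 1002 = 1 := s_ap.2.1
  have q' := Q_s.mul q
  have br := braid (s := φ (el 6)) (by rw [← map_mul, show el 6 * el 6 = 1 from Subtype.ext s_sq, map_one]) sq
    ((st_cube ▸ q'.mul (q'.mul q')).one hφ hr (by
      simp only [mul_smul]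
      rw [h1, he _ _ (by norm_num), s1, d, he _ _ (by norm_num), s2, h2, he _ _ (by norm_num), s0]))
  have br0 := braid s_sq t_sq st_cube
  have sG : gp rn 6 ∈ G0 := mem_cl (by decide)
  have hes : ∀ p < 4060, φ (el 6) • ρ p = ρ (gp rn 6 p) := he _
  -- transport along the two point stabiliser
  have mv : ∀ k ∈ K0, ∀ p < 4060, ∀ r < 4060, t • ρ p = ρ r → t • ρ (k p) = ρ (gp rn 14 (k (gp rn 14 r))) :=
    fun k hk p hp r hr' e => by
      obtain ⟨l, a, b⟩ := h3 ⟨k, KH hk⟩ ((fix1 (KH hk)).2 hk)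
      rw [← he ⟨k, KH hk⟩ p hp, ← mul_smul, a, mul_smul, e, he _ _ hr', ← Equiv.Perm.mul_apply (gp rn 14), b,
        Equiv.Perm.mul_apply, tt]
  have mk : ∀ k ∈ K0, ∀ p < 4060, t • ρ p = ρ (gp rn 14 p) → t • ρ (k p) = ρ (gp rn 14 (k p)) := fun k hk p hp e => by
    rw [mv k hk p hp _ (lt tG hp) e, tt]
  have iw : ∀ w : List ℕ, subB w LK = true → (ev (gp rn) w)⁻¹ ∈ K0 := fun w hw =>
    inv_mem (ev_mem fun x hx => mem_cl (sub_of_subB hw x hx))
  have mw : ∀ w p r, subB w LK = true → p < 4060 → wap tb w p = r → t • ρ p = ρ (gp rn 14 p) →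
      t • ρ r = ρ (gp rn 14 r) := fun w p r a b c e => by
    rw [← c, wap_eq htb]; exact mk _ (iw w a) p b e
  have sy : ∀ p r, wap tb [14] r = p → t • ρ p = ρ (gp rn 14 p) → t • ρ r = ρ (gp rn 14 r) := fun p r a e => by
    rw [← ap1 a, ← e, ← mul_smul, sq, one_smul, tt]
  have ru : ∀ p a b c, p < 4060 → wap tb [14] a = p → wap tb [6] b = a → wap tb [6] c = p →
      t • ρ p = ρ (gp rn 14 p) → t • ρ b = ρ (gp rn 14 b) → t • ρ c = ρ (gp rn 14 c) := fun p a b c hp x y z e f => by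
    have l1 := lt tG hp
    rw [← ap1 y, ← ap1 x] at f
    rw [← ap1 z, ← hes p hp, ← mul_smul, br, mul_smul, mul_smul, mul_smul, e, hes _ l1, f, hes _ (lt tG (lt sG l1)),
      ← Equiv.Perm.mul_apply (gp rn 14) (gp rn 6) p, br0]
    rfl
  have A0 : t • ρ 0 = ρ (gp rn 14 0) := t0 ▸ h1
  have A1 : t • ρ 1 = ρ (gp rn 14 1) := t1 ▸ h2
  have Ad : t • ρ 1002 = ρ (gp rn 14 1002) := t2.symm ▸ d
  have A2 : t • ρ 2 = ρ (gp rn 14 2) := by
    obtain ⟨r, hr', e⟩ := hs t 2 (by norm_num)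
    have := mem_of_fixWB htb fix_S hr' fun w hw => by
      obtain ⟨x, hx, rfl⟩ : ∃ x ∈ [2, 5], w = [14, x, 14] := by simpa using hw
      have k : gp rn x ∈ K0 := mem_cl (by clear hw; revert x; decide)
      have := mv _ k 2 (by norm_num) r hr' e
      rw [ap1 (show wap tb [x] 2 = 2 by clear this k hw; revert x; decide +kernel), e] at this
      simpa only [ev_cons, ev_nil, mul_one, Equiv.Perm.mul_apply] using
        (hi _ hr' _ (lt tG (lt (HG (KH k)) (lt tG hr'))) this).symm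
    simp only [List.mem_cons, List.not_mem_nil, or_false] at this
    rcases this with rfl | rfl | rfl | rfl
    · exact absurd (hi _ (by norm_num) _ (by norm_num) (MulAction.injective t (e.trans h2.symm))) (by norm_num)
    · exact absurd (hi _ (by norm_num) _ (by norm_num) (MulAction.injective t (e.trans h1.symm))) (by norm_num)
    · have a := mw [1, 4] 1002 977 (by decide +kernel) (by norm_num) (by decide +kernel) Ad
      have b := mv _ (iw [1, 1, 2, 4, 3] (by decide +kernel)) 2 (by norm_num) _ hr' e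
      rw [← wap_eq htb, ← wap_eq htb, show wap tb [1, 1, 2, 4, 3] 2 = 834 by decide +kernel,
        ap1 (p := 393) (q := 2305) (by decide +kernel), ap1 (q := 836) (by decide +kernel)] at b
      have := congrArg (· • ρ 977) br
      simp only [mul_smul] at this
      rw [a, ap1 (p := 977) (q := 977) (by decide +kernel), hes _ (by norm_num),
        ap1 (p := 977) (q := 834) (by decide +kernel), b, hes _ (by norm_num), s_ap.2.2.1] at this
      exact absurd (hi _ (by norm_num) _ (by norm_num) this) (by norm_num)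
    · exact e.trans (congrArg ρ (ap1 (by decide +kernel)).symm)
  have A3 := sy 2 3862 (by decide +kernel) A2
  have B1 := ru 42 3457 3660 1095 (by norm_num) (by decide +kernel) (by decide +kernel) (by decide +kernel)
    (mw [1, 2, 2, 4, 4] 2 _ (by decide +kernel) (by norm_num) (by decide +kernel) A2)
    (mw [3, 5] 3862 _ (by decide +kernel) (by norm_num) (by decide +kernel) A3)
  have B2 := ru 43 3711 3548 1541 (by norm_num) (by decide +kernel) (by decide +kernel) (by decide +kernel)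
    (mw [1, 1, 4, 1, 5] 2 _ (by decide +kernel) (by norm_num) (by decide +kernel) A2)
    (mw [4, 3, 4, 3, 5] 3862 _ (by decide +kernel) (by norm_num) (by decide +kernel) A3)
  have B3 := ru 2 3862 3449 2257 (by norm_num) (by decide +kernel) (by decide +kernel) (by decide +kernel) A2
    (mw [2, 2, 5, 2] 3862 _ (by decide +kernel) (by norm_num) (by decide +kernel) A3)
  have B4 := ru 2305 393 97 3081 (by norm_num) (by decide +kernel) (by decide +kernel) (by decide +kernel)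
    (mw [4, 3, 4, 1, 3] 3862 _ (by decide +kernel) (by norm_num) (by decide +kernel) A3)
    (mw [1, 1] 2 _ (by decide +kernel) (by norm_num) (by decide +kernel) A2)
  refine ⟨t, fun p hp => ?_⟩
  obtain ⟨k, hk, r, hr', rfl⟩ := orb_sound rn_ok (G := K0) (ops := [1, 2, 3, 5, 4, 1, 2, 3, 4, 5, 1, 3, 2, 1])
    (fun x hx => mem_cl (by revert x; decide)) _ p
    (by rw [beq_tt.1 orb_K, testBit_itv]; simpa using hp)
  rw [testBit_msk] at hr'
  refine mk k hk r (by clear hp; revert r; decide) ?_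
  simp only [List.mem_cons, List.not_mem_nil, or_false] at hr'
  rcases hr' with rfl | rfl | rfl | rfl | rfl | rfl | rfl | rfl | rfl <;> assumption

include hφ hr he hi hs in
theorem exists_hom {u : G} (h1 : u • ρ 0 = ρ 1) (h2 : u • ρ 1 = ρ 0) : ∃ f : G0 →* G, Function.Injective f := by
  obtain ⟨t, ht⟩ := exists_full hφ hr he hi hs h1 h2
  let R : Subgroup (G0 × G) :=
    { carrier := {x | ∀ p < 4060, x.2 • ρ p = ρ (x.1.1 p)}
      one_mem' := fun p _ => one_smul _ _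
      mul_mem' := fun {x y} a b p hp => ((mul_smul _ _ _).trans (congrArg _ (b p hp))).trans (a _ (lt y.1.2 hp))
      inv_mem' := fun {x} a p hp => inv_smul_eq_iff.2 ((a _ (lt (inv_mem x.1.2) hp)).trans
        (congrArg ρ (app_inv _ p))).symm }
  have a : Function.Bijective ((MonoidHom.fst G0 G).comp R.subtype) := ⟨(injective_iff_map_eq_one _).2 fun x hx => by
    have hx : x.1.1 = 1 := hx
    have k := x.2
    obtain ⟨h, e⟩ := hr.ge (show x.1.2 • ρ 0 = ρ 0 by rw [k 0 (by norm_num), hx]; rfl)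
    refine Subtype.ext (Prod.ext hx ?_)
    rw [← e, show h = 1 from Subtype.ext (one_of_fix (HG h.2) fun p hp => hi _ (lt (HG h.2) hp) _ hp (by
      rw [← he h p hp, e, k p hp, hx]; rfl)), map_one]
    rfl, fun g => by
    have : G0 ≤ (((MonoidHom.fst G0 G).comp R.subtype).range).map G0.subtype := cl_le.2 fun x hx => by
      rcases (show x ∈ LH ∨ x = 14 by revert x; decide) with h | rfl
      exacts [⟨_, ⟨⟨(⟨_, mem_cl hx⟩, φ (el x h)), he _⟩, rfl⟩, rfl⟩, ⟨_, ⟨⟨(⟨_, tG⟩, t), ht⟩, rfl⟩, rfl⟩]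
    exact (mem_map_iff_mem (subtype_injective _)).1 (this g.2)⟩
  refine ⟨((MonoidHom.snd G0 G).comp R.subtype).comp (MulEquiv.ofBijective _ a).symm.toMonoidHom,
    ((injective_iff_map_eq_one ((MonoidHom.snd G0 G).comp R.subtype)).2 fun x hx => ?_).comp
      (MulEquiv.ofBijective _ a).symm.injective⟩
  have hx : x.1.2 = 1 := hx
  exact Subtype.ext (Prod.ext (Subtype.ext (one_of_fix x.1.1.2 fun p hp => hi _ (lt x.1.1.2 hp) _ hp (by
    rw [← x.2 p hp, hx, one_smul]))) hx)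

end

theorem exists_orb {G Ω : Type*} [Group G] [MulAction G Ω] (φ : H0 →* G) {y : Ω} {b : ℕ}
    (hy : ∀ h : H0, h.1 b = b → φ h • y = y) : ∃ r : ℕ → Ω, ∀ h : H0, r (h.1 b) = φ h • y := by
  classical
  refine ⟨fun p => if h : ∃ g : H0, g.1 b = p then φ h.choose • y else y, fun h => ?_⟩
  have e : ∃ g : H0, g.1 b = h.1 b := ⟨h, rfl⟩
  simp only [dif_pos e]
  rw [← inv_smul_eq_iff, ← mul_smul, ← map_inv, ← map_mul]
  exact hy _ (Equiv.Perm.inv_eq_iff_eq.2 e.choose_spec)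

theorem main {G Ω : Type*} [Group G] [Finite G] [MulAction G Ω] [IsPretransitive G Ω] [Fintype Ω]
    (hΩ : Fintype.card Ω = 4060) {a b c : Ω} (e : H0 ≃* stabilizer G a)
    (hb : (orbit (stabilizer G a) b).ncard = 1755) (hc : (orbit (stabilizer G a) c).ncard = 2304) :
    Nonempty (G ≃* G0) := by
  have h3 := orbit_cases (a := a) (fun _ h => h) hc hb (by norm_num) (by norm_num) (by norm_num) hΩ
  have cA : Nat.card (stabilizer G a) = 35942400 := (Nat.card_congr e.toEquiv).symm.trans card_H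
  have cb := Golay.card_eq_orbit_mul (stabilizer G a) b
  have cc := Golay.card_eq_orbit_mul (stabilizer G a) c
  rw [cA, hb] at cb
  rw [cA, hc] at cc
  obtain ⟨t, h1, h2⟩ := exists_swap h3 (fun h => by rw [h, inf_idem, cA] at cc; omega) (by omega)
  obtain ⟨g, hg⟩ := conjK (K := (stabilizer (stabilizer G a) c).comap e.toMonoidHom) (by
    rw [index_comap_of_surjective _ e.surjective, index_stabilizer, hc])
  obtain ⟨k, hk⟩ := conjP (K := (stabilizer (stabilizer G a) b).comap e.toMonoidHom) (by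
    rw [index_comap_of_surjective _ e.surjective, index_stabilizer, hb])
  let φ : H0 →* G := (stabilizer G a).subtype.comp e.toMonoidHom
  have hφ : Function.Injective φ := (subtype_injective _).comp (MulEquiv.injective _)
  have hr : φ.range = stabilizer G a := by
    rw [MonoidHom.range_comp, MonoidHom.range_eq_top.2 (MulEquiv.surjective _), ← MonoidHom.range_eq_map, range_subtype]
  have fa : ∀ h, φ h • a = a := fun h => hr.le ⟨h, rfl⟩
  obtain ⟨r, r1⟩ := exists_orb φ (y := φ g⁻¹ • c) (b := 1) fun h hh => by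
    rw [map_inv, eq_inv_smul_iff, ← map_inv, ← mul_smul, ← mul_smul, ← map_mul, ← map_mul]; exact (hg h).2 hh
  obtain ⟨s, s1⟩ := exists_orb φ (y := φ k⁻¹ • b) (b := 2305) fun h hh => by
    rw [map_inv, eq_inv_smul_iff, ← map_inv, ← mul_smul, ← mul_smul, ← map_mul, ← map_mul]; exact (hk h).2 hh
  obtain ⟨-, -, -, a1, a2, -⟩ := a_ex.cons rn_ok
  obtain ⟨-, -, -, b1, b2, -⟩ := b_ex.cons rn_ok
  obtain ⟨ρ, ρ0, ρ1, ρ2⟩ : ∃ ρ : ℕ → Ω, ρ 0 = a ∧ (∀ h : H0, ρ (h.1 1) = φ h • φ g⁻¹ • c) ∧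
      ∀ h : H0, ρ (h.1 2305) = φ h • φ k⁻¹ • b :=
    ⟨fun p => if p = 0 then a else if p < 2305 then r p else s p, rfl, fun h => by
      have := a1 h h.2
      simp only [if_neg (show h.1 1 ≠ 0 by omega), if_pos (show h.1 1 < 2305 by omega), r1], fun h => by
      have := b1 h h.2
      simp only [if_neg (show h.1 2305 ≠ 0 by omega), if_neg (show ¬ h.1 2305 < 2305 by omega), s1]⟩
  have su : ∀ x, ∃ p < 4060, ρ p = x := fun x => by
    rcases h3 x with rfl | ⟨⟨l, hl⟩, rfl⟩ | ⟨⟨l, hl⟩, rfl⟩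
    · exact ⟨0, by norm_num, ρ0⟩
    · obtain ⟨l, rfl⟩ := hr.ge hl
      exact ⟨_, lt (HG (l * g).2) (p := 1) (by norm_num), by rw [ρ1, ← mul_smul, ← map_mul, mul_inv_cancel_right]; rfl⟩
    · obtain ⟨l, rfl⟩ := hr.ge hl
      exact ⟨_, lt (HG (l * k).2) (p := 2305) (by norm_num), by rw [ρ2, ← mul_smul, ← map_mul, mul_inv_cancel_right]; rfl⟩
  have ij := ((Fintype.bijective_iff_surjective_and_card fun i : Fin 4060 => ρ i).2 ⟨fun x => by
    obtain ⟨p, hp, e⟩ := su x; exact ⟨⟨p, hp⟩, e⟩, by rw [hΩ, Fintype.card_fin]⟩).1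
  have ρ3 : ρ 1 = φ g⁻¹ • c := by simpa using ρ1 1
  obtain ⟨f, hf⟩ := exists_hom (ρ := ρ) hφ (ρ0 ▸ hr) (fun h p hp => by
      rcases (show p = 0 ∨ (1 ≤ p ∧ p < 1 + 2304) ∨ (2305 ≤ p ∧ p < 2305 + 1755) by omega) with rfl | k | k
      · rw [h0 h.2, ρ0, fa]
      · obtain ⟨l, hl, rfl⟩ := a2 p k.1 k.2
        rw [ρ1 ⟨l, hl⟩, ← mul_smul, ← map_mul, ← ρ1]; rfl
      · obtain ⟨l, hl, rfl⟩ := b2 p k.1 k.2
        rw [ρ2 ⟨l, hl⟩, ← mul_smul, ← map_mul, ← ρ2]; rfl)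
    (fun p hp q hq h => congrArg Fin.val (ij (a₁ := ⟨p, hp⟩) (a₂ := ⟨q, hq⟩) h))
    (fun u p _ => (su (u • ρ p)).imp fun _ h => ⟨h.1, h.2.symm⟩) (u := φ g⁻¹ * t * φ g)
    (by rw [ρ0, ρ3, mul_smul, mul_smul, fa, h1])
    (by rw [ρ0, ρ3, mul_smul, mul_smul, map_inv, smul_inv_smul, h2, ← map_inv, fa])
  exact ⟨(MulEquiv.ofBijective f (hf.bijective_of_nat_card_le (by
    rw [card_G, ← (stabilizer G a).card_mul_index, cA, index_stabilizer_of_transitive, Nat.card_eq_fintype_card,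
      hΩ]))).symm⟩

end Cfsg.Lib.Rk3.Rv
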