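/-
Recognition of the Rudvalis group as a rank 3 group on 4060 points.
-/
import Cfsg.Agent.Lib.Rank3.RuC
import Cfsg.Agent.Lib.Comp.Titsx.Out
import Cfsg.Agent.Lib.Comp.Titsx.Mat
import Cfsg.Agent.Lib.Twist.InvTw
import Cfsg.Agent.Lib.Ru.Iso

set_option autoImplicit false
set_option maxRecDepth 100000

namespace Cfsg.Lib.Rk3.Rv

open Subgroup MulAction Cfsg.Lib.Comp Cfsg.Lib.Comp.RuR Cfsg.Lie

theorem center_T : center (cl (gp Titsx.nets) Titsx.L) = ⊥ := by
  have := Titsx.simple
  exact center_eq_bot (by rw [Titsx.card]; norm_num)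

theorem aut_H : Nonempty (H0 ≃* MulAut (cl (gp Titsx.nets) Titsx.L)) := by
  have := Rux.nets_ok.finite RuM.M1
  obtain ⟨e1⟩ := equiv_of_conj cjH (RuM.stab0.2.trans card_H.symm).le
  obtain ⟨e, -⟩ := RuM.tits
  have hf : Function.Injective (e1.toMonoidHom.comp ((inclusion RuM.tits_le).comp e.toMonoidHom)) :=
    e1.injective.comp ((inclusion_injective RuM.tits_le).comp e.injective)
  refine aut_iso hf ?_ center_T center_H (Titsx.out_le (MulEquiv.refl _))
  have := (e1.toMonoidHom.comp ((inclusion RuM.tits_le).comp e.toMonoidHom)).range.card_mul_index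
  rw [← Nat.card_congr (MonoidHom.ofInjective hf).toEquiv, Titsx.card, card_H] at this
  omega

theorem aut_gen {Γ Δ : Type*} [Group Γ] [Group Δ] {T : Subgroup Δ} {F : Subgroup Γ} [Finite T] {D : Subgroup F}
    (e : T ≃* D) (i : D.index = 2)
    (hT : center T = ⊥) (h2 : ∀ g : F, g ^ 2 = 1 → g ∈ D) (ho : Finite (Out T) ∧ Nat.card (Out T) ≤ 2) :
    Nonempty (F ≃* MulAut T) := by
  have : Finite D := Finite.of_equiv _ e.toEquiv
  have : Finite F := Nat.finite_of_card_ne_zero (by
    rw [← D.card_mul_index, i]; exact Nat.mul_ne_zero Nat.card_pos.ne' two_ne_zero)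
  have hf : Function.Injective (D.subtype.comp e.toMonoidHom) := (subtype_injective _).comp e.injective
  have r : (D.subtype.comp e.toMonoidHom).range = D := by
    rw [MonoidHom.range_comp, MonoidHom.range_eq_top.2 e.surjective, ← MonoidHom.range_eq_map, range_subtype]
  refine aut_iso hf ((congrArg Subgroup.index r).trans i) hT (eq_bot_iff.2 fun z hz => ?_) ho
  have k : ∀ y ∈ center F, y ∈ D → y = 1 := fun y hy h => by
    obtain ⟨t, rfl⟩ := r.ge h
    rw [show t = 1 from mem_bot.1 (hT.le (mem_center_iff.2 fun u => hf (by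
      rw [map_mul, map_mul]; exact mem_center_iff.1 hy _))), map_one]
  exact k z hz (h2 z (k _ (pow_mem hz 2) (sq_mem_of_index_two i z)))

theorem aut_F : Nonempty (twistedF4 (ZMod 2) 1 ≃* MulAut (cl (gp Titsx.nets) Titsx.L)) :=
  have := Titsx.nets_ok.finite Titsx.L
  Titsx.iso.2.elim fun e => aut_gen (D := commutator (twistedF4 (ZMod 2) 1)) e Titsx.iso.1 center_T
    (fun _ h => Twist.Tits.invol_mem h) (Titsx.out_le (MulEquiv.refl _))

theorem iso_G : Nonempty (G0 ≃* Spor.Ru) := by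
  have := Rux.nets_ok.finite RuM.M0
  obtain ⟨e1⟩ := equiv_of_conj cjG ((RuM.cl_M0 ▸ Rux.card).trans card_G.symm).le
  obtain ⟨e⟩ := RuL.iso
  exact ⟨e1.symm.trans ((MulEquiv.subgroupCongr RuM.cl_M0).trans e.symm)⟩

end Cfsg.Lib.Rk3.Rv
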