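/-
Recognition of the sporadic Suzuki group as a rank 3 group on 1782 points.
-/
import Cfsg.Agent.Lib.Rank3.G24
import Cfsg.Agent.Lib.J2.Five
import Cfsg.Agent.Lib.Comp.Suz3.T02
import Cfsg.Agent.Lib.Comp.Suz.Sub

set_option autoImplicit false
set_option maxRecDepth 100000

namespace Cfsg.Lib.Rk3.G24

open Subgroup MulAction Cfsg.Lib.Comp Cfsg.Lib.Comp.G24x

/-- the group `G₂(4)`. -/
noncomputable abbrev HH : Subgroup (Equiv.Perm ℕ) := cl (gp nets) L
/-- the point stabiliser. -/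
noncomputable abbrev KK : Subgroup (Equiv.Perm ℕ) := cl (gp nets) [1, 2, 3, 4, 5, 6, 7]

instance finHH : Finite HH := nets_ok.finite L

theorem index_K : (KK.subgroupOf HH).index = 416 := by
  have := (KK.subgroupOf HH).card_mul_index
  rw [Nat.card_congr (subgroupOfEquivOfLe le7).toEquiv, J2.stab24.2, card] at this
  omega

theorem conj_K {K : Subgroup HH} (hK : K.index = 416) : ∃ g : HH, ∀ h : HH, g * h * g⁻¹ ∈ K ↔ h.1 0 = 0 := by
  have : Fact (Nat.Prime 5) := ⟨by norm_num⟩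
  have c : Nat.card K = 604800 := by have := K.card_mul_index; rw [hK, card] at this; omega
  obtain ⟨Q, hQ⟩ := Sylow.exists_subgroup_card_pow_prime 5 (n := 2) (G := K) (by rw [c]; norm_num)
  obtain ⟨g, hg⟩ := exists_conj_le (Q := Q.map K.subtype) (K := KK.subgroupOf HH) ((IsPGroup.of_card hQ).map _)
    (by rw [index_K]; norm_num)
  obtain ⟨e⟩ := equivK
  have c0 : Nat.card (KK.subgroupOf HH) = 604800 :=
    (Nat.card_congr (subgroupOfEquivOfLe le7).toEquiv).trans J2.stab24.2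
  have c1 := (J2.Five.card_cj g K).trans c
  have h1 : KK.subgroupOf HH ≤ J2.Five.cj g K := by
    refine subgroupOf_eq_top.1 (J2.Five.eq_top (e.trans (subgroupOfEquivOfLe le7).symm) ?_ ?_)
    · rw [Golay.card_subgroupOf]
      have : J2.Five.cj g (Q.map K.subtype) ≤ KK.subgroupOf HH ⊓ J2.Five.cj g K := fun x hx =>
        ⟨by simpa [mul_assoc] using hg _ hx, map_subtype_le Q hx⟩
      have := card_dvd_of_le this
      rwa [J2.Five.card_cj, card_map_of_injective (subtype_injective _), hQ] at this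
    · have a := ((J2.Five.cj g K).subgroupOf (KK.subgroupOf HH)).card_mul_index
      have b := (J2.Five.cj g K).card_mul_index
      have d : (J2.Five.cj g K).relIndex (KK.subgroupOf HH) ≤ (J2.Five.cj g K).index :=
        relIndex_top_right (J2.Five.cj g K) ▸ relIndex_le_of_le_right le_top (by
          rw [relIndex_top_right]; exact index_ne_zero_of_finite)
      rw [c1, card] at b
      rw [c0] at a
      by_contra hn
      have := Nat.mul_le_mul (not_lt.1 hn) d
      rw [relIndex, a] at this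
      omega
  have h2 := eq_of_le_of_card_ge h1 (c1.trans c0.symm).le
  exact ⟨g, fun h => ((J2.stab24.1 h h.2).trans (SetLike.ext_iff.1 h2 h)).symm⟩

/-- the generators as elements. -/
noncomputable def η : ℕ → HH := sval HH (sv (gp nets) V9)

theorem coe_η (x : ℕ) : (η x : Equiv.Perm ℕ) = sv (gp nets) V9 x := coe_sval (sv_mem (fun _ => mem_cl) V9_sub x)

theorem η_eq {x : ℕ} (hx : x ∈ L) : η x = ⟨gp nets x, mem_cl hx⟩ := Subtype.ext ((coe_η x).trans (sv_V9 hx))

/-- the relators inside the point stabiliser. -/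
noncomputable def RH : List (List ℕ × ℕ) := Suz3.T0_R.filter fun r => 10 ∉ r.1

theorem η_rel : Rels η RH :=
  (srels (J2.exact24.isBase nets_ok) htb (fun _ => mem_cl) V9_sub (by decide +kernel)).sval
    fun _ _ x _ => sv_mem (fun _ => mem_cl) V9_sub x

theorem η_sq (x : ℕ) (hx : x < 64) : η x * η x = 1 :=
  mul_eq_one_iff_eq_inv.2 ((V9_iv.sval HH).2 x hx).2

theorem η_conj : ∀ x ∈ [1, 2, 3, 4, 5, 6], ∀ y ∈ [1, 2, 3, 4, 5, 6], nth [] Vo x = [y] → η 9 * η x = η y * η 9 := by
  have a : ∀ x ∈ [1, 2, 3, 4], η 9 * η x = η x * η 9 := fun x hx => by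
    have := η_rel ([x, 9], 1) (by revert x; decide +kernel)
    simp only [ev_cons, ev_nil, mul_one, pow_succ, pow_zero, one_mul] at this
    rw [mul_eq_one_iff_eq_inv.1 this, mul_inv_rev, ← mul_eq_one_iff_eq_inv.1 (η_sq 9 (by norm_num)),
      ← mul_eq_one_iff_eq_inv.1 (η_sq x (by clear this; revert x; decide))]
  have b : η 9 * η 6 = η 5 * η 9 := by
    have := η_rel ([5, 9, 6, 9], 0) (by decide +kernel)
    simp only [ev_cons, ev_nil, mul_one, zero_add, pow_one] at this
    rw [← mul_one (η 5 * η 9), ← mul_eq_one_comm.1 this, ← one_mul (η 9 * η 6), ← η_sq 5 (by norm_num)]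
    calc _ = η 5 * (η 5 * (η 9 * (η 6 * η 9))) * η 9 * (η 9 * η 9)⁻¹ := by group
      _ = _ := by rw [this, η_sq 9 (by norm_num), mul_eq_one_comm.1 this]; simp
  have c : η 9 * η 5 = η 6 * η 9 := by
    calc _ = η 9 * (η 5 * η 9) * η 9 * (η 9 * η 9)⁻¹ := by group
      _ = (η 9 * η 9) * η 6 * η 9 * (η 9 * η 9)⁻¹ := by rw [← b]; group
      _ = _ := by rw [η_sq 9 (by norm_num)]; simp
  intro x hx y _ e
  simp only [List.mem_cons, List.not_mem_nil, or_false] at hx
  rcases hx with rfl | rfl | rfl | rfl | rfl | rfl <;> cases e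
  exacts [a 1 (by decide), a 2 (by decide), a 3 (by decide), a 4 (by decide), c, b]

theorem perm6 : ∀ y ∈ [1, 2, 3, 4, 5, 6], ∃ x ∈ [1, 2, 3, 4, 5, 6], nth [] Vo x = [y] ∧ nth [] Vo y = [x] := by
  decide +kernel

section
variable {G Ω : Type*} [Group G] [MulAction G Ω] {a b : Ω} {φ : HH →* G} (hφ : Function.Injective φ)
  (hr : φ.range = stabilizer G a) (hb : ∀ h, φ h • b = b ↔ h.1 0 = 0)
  (hΩ : ∀ x, x = a ∨ x ∈ orbit (stabilizer G a) b ∨ Nat.card ↥(stabilizer G a ⊓ stabilizer G x) = 184320)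

include hb in
theorem smul_eq_iff (h k : HH) : φ h • b = φ k • b ↔ h.1 0 = k.1 0 := by
  rw [← inv_smul_eq_iff, ← mul_smul, ← map_inv, ← map_mul, hb]
  exact Equiv.Perm.inv_eq_iff_eq

include hr in
theorem fix_a (h : HH) : φ h • a = a := hr.le ⟨h, rfl⟩

include hφ hr hb hΩ in
theorem fix_c {t : G} (h1 : t • a = b) (h2 : t • b = a) (hab : b ≠ a)
    (ht : ∀ y ∈ [1, 2, 3, 4, 5, 6], ∃ x ∈ [1, 2, 3, 4, 5, 6], φ (η y) * t = t * φ (η x)) :
    t • φ (η 9) • b = φ (η 9) • b := by
  have s0 : (η 9).1 0 = 1 := coe_η 9 ▸ s_apply.1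
  have f : ∀ y ∈ [1, 2, 3, 4, 5, 6], φ (η y) • t • φ (η 9) • b = t • φ (η 9) • b := fun y hy => by
    obtain ⟨x, hx, e⟩ := ht y hy
    rw [← mul_smul, e, mul_smul, ← mul_smul (φ _), ← map_mul, (smul_eq_iff hb _ (η 9)).2]
    rw [η_eq (show x ∈ L by clear e; revert x; decide)]
    exact (congrArg (gp nets x) s0).trans ((fx (by clear e; revert x; decide +kernel)).trans s0.symm)
  rcases hΩ (t • φ (η 9) • b) with e | ⟨⟨g, hg⟩, e⟩ | e
  · have := (hb _).1 (MulAction.injective t (e.trans h2.symm))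
    omega
  · obtain ⟨h, rfl⟩ := hr.ge hg
    have e : φ h • b = _ := e
    rcases fix6 (lt416 h.2 (p := 0) (by norm_num)) (fun y hy => by
      have := f y hy
      rwa [← e, ← mul_smul, ← map_mul, smul_eq_iff hb, η_eq (show y ∈ L by clear this; revert y; decide)] at this)
      with k | k
    · have := MulAction.injective t (e.symm.trans (((hb h).2 k).trans h1.symm))
      exact (hab (MulAction.injective (φ (η 9)) (this.trans (fix_a hr _).symm))).elim
    · rw [← e]; exact (smul_eq_iff hb _ _).2 (k.trans s0.symm)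
  · let ψ := φ.comp (inclusion (le6.trans le7))
    have m : ∀ l, ψ l ∈ stabilizer G a ⊓ stabilizer G (t • φ (η 9) • b) := fun l => by
      have : cl (gp nets) [1, 2, 3, 4, 5, 6] ≤ ((stabilizer G (t • φ (η 9) • b)).comap φ).map HH.subtype :=
        cl_le.2 fun y hy => ⟨η y, f y hy, (coe_η y).trans (sv_V9 (by revert y; decide))⟩
      exact ⟨fix_a hr _, (mem_map_iff_mem (subtype_injective _) (x := inclusion (le6.trans le7) l)).1 (this l.2)⟩
    have := card_dvd_of_injective (ψ.codRestrict _ m) fun x y h =>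
      (hφ.comp (inclusion_injective _)) (congrArg Subtype.val h)
    rw [e, stab1.2] at this
    norm_num at this

include hφ hr hb hΩ in
theorem exists_t (hab : b ≠ a) {t : G} (h1 : t • a = b) (h2 : t • b = a) : ∃ t : G, t • a = b ∧ t • b = a ∧
    ∀ x ∈ [1, 2, 3, 4, 5, 6, 7], t * φ (η x) * t⁻¹ = ev (fun y => φ (η y)) (nth [] Vo x) := by
  let ψ := φ.comp (inclusion le7)
  have hψ : Function.Injective ψ := hφ.comp (inclusion_injective _)
  have r : ∀ g, g ∈ ψ.range ↔ g • a = a ∧ g • b = b := fun g => ⟨by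
    rintro ⟨k, rfl⟩; exact ⟨fix_a hr _, (hb _).2 ((J2.stab24.1 _ (le7 k.2)).2 k.2)⟩, fun h => by
    obtain ⟨k, rfl⟩ := hr.ge h.1
    exact ⟨⟨k, (J2.stab24.1 _ k.2).1 ((hb k).1 h.2)⟩, rfl⟩⟩
  have e : ∀ x (hx : x ∈ [1, 2, 3, 4, 5, 6, 7]), ψ ⟨_, mem_cl hx⟩ = φ (η x) := fun x hx => by
    rw [η_eq (show x ∈ L by revert x; decide)]; rfl
  obtain ⟨τ, hτ⟩ := exists_aut hψ (t := t) fun g => by
    have i1 : t⁻¹ • b = a := inv_smul_eq_iff.2 h1.symm
    have i2 : t⁻¹ • a = b := inv_smul_eq_iff.2 h2.symm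
    rw [r, r, mul_smul, mul_smul, mul_smul, mul_smul, i1, i2, ← eq_inv_smul_iff (g := t),
      ← eq_inv_smul_iff (g := t), i1, i2,
      and_comm]
  obtain ⟨σ, hσ, hσ'⟩ := exists_outer
  have n : τ ∉ Inn _ := by
    rintro ⟨k, rfl⟩
    have k1 := (r _).1 ⟨k⁻¹, rfl⟩
    have u1 : (t * ψ k⁻¹) • a = b := by rw [mul_smul, k1.1, h1]
    have u2 : (t * ψ k⁻¹) • b = a := by rw [mul_smul, k1.2, h2]
    have u3 : ∀ x ∈ [1, 2, 3, 4, 5, 6], Commute (t * ψ k⁻¹) (φ (η x)) := fun x hx => by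
      have hx' : x ∈ [1, 2, 3, 4, 5, 6, 7] := by revert x; decide
      have := hτ (k⁻¹ * ⟨_, mem_cl hx'⟩ * k)
      simp only [MulAut.conj_apply, map_mul, map_inv, e x hx'] at this
      rw [map_inv, Commute, SemiconjBy, ← mul_inv_eq_iff_eq_mul]
      calc _ = t * ((ψ k)⁻¹ * φ (η x) * ψ k) * t⁻¹ := by group
        _ = _ := by rw [← this]; group
    generalize t * ψ k⁻¹ = u at u1 u2 u3
    have u4 := fix_c hφ hr hb hΩ u1 u2 hab fun y hy => ⟨y, hy, (u3 y hy).eq.symm⟩
    have s2 : φ (η 9) • φ (η 9) • b = b := by rw [← mul_smul, ← map_mul, η_sq 9 (by norm_num), map_one, one_smul]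
    obtain ⟨y, hy⟩ := hr.ge (show (u * φ (η 9)) * u * (u * φ (η 9))⁻¹ ∈ stabilizer G a by
      rw [mem_stabilizer_iff, mul_smul, mul_smul, inv_smul_eq_iff.2 (show a = (u * φ (η 9)) • φ (η 9) • b by
        rw [mul_smul, s2, u2]), u4, mul_smul, s2, u2])
    have y0 : φ y • b = φ (η 9) • b := by
      rw [hy, mul_smul, mul_smul, inv_smul_eq_iff.2 (show b = (u * φ (η 9)) • a by rw [mul_smul, fix_a hr, u1]), u1,
        mul_smul, u4]
    have y1 : φ y • φ (η 9) • b = b := by
      rw [hy, mul_smul, mul_smul, inv_smul_eq_iff.2 (show φ (η 9) • b = (u * φ (η 9)) • b by rw [mul_smul, u4]), u2,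
        mul_smul, fix_a hr, u1]
    rw [smul_eq_iff hb, coe_η, s_apply.1] at y0
    rw [← mul_smul, ← map_mul, hb] at y1
    refine no_cent y.2 y0 ((congrArg y.1 (coe_η 9 ▸ s_apply.1 : (η 9).1 0 = 1)).symm.trans y1) fun z hz => ?_
    obtain ⟨x, hx, p, -⟩ := perm6 z hz
    have q := congrArg φ (η_conj x hx z hz p)
    simp only [map_mul] at q
    have w : Commute y (η z) := hφ (by
      have q' : φ (η z) = (u * φ (η 9)) * φ (η x) * (u * φ (η 9))⁻¹ := by
        rw [mul_assoc u, q, ← mul_assoc u, (u3 z hz).eq]; group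
      rw [map_mul, map_mul, hy, q']
      calc _ = (u * φ (η 9)) * (u * φ (η x)) * (u * φ (η 9))⁻¹ := by group
        _ = _ := by rw [(u3 x hx).eq]; group)
    rw [η_eq (show z ∈ L by clear w q p; revert z; decide)] at w
    exact congrArg Subtype.val w.eq
  obtain ⟨k, hk⟩ := out_two out_K hσ n
  have k1 := (r _).1 ⟨k, rfl⟩
  refine ⟨t * ψ k, by rw [mul_smul, k1.1, h1], by rw [mul_smul, k1.2, h2], fun x hx => ?_⟩
  have := hτ (k * ⟨_, mem_cl hx⟩ * k⁻¹)
  rw [← hk, map_mul, map_mul, map_inv, e x hx] at this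
  rw [← ev_map]
  refine (show _ = _ by group).trans (this.symm.trans (congrArg φ (Subtype.ext ((hσ' x hx).trans ?_))))
  have hs : ∀ y ∈ nth [] Vo x, y ∈ L := by clear this; revert x; decide +kernel
  rw [η, coe_ev_sval fun y _ => sv_mem (fun _ => mem_cl) V9_sub y]
  exact ev_congr _ fun y hy => (sv_V9 (hs y hy)).symm

include hφ hr hb hΩ in
theorem exists_rels (hab : b ≠ a) {t : G} (h1 : t • a = b) (h2 : t • b = a) : ∃ γ : ℕ → G, IvOK γ iv ∧
    Rels γ Suz3.T0_R ∧ ∀ x ∈ L, γ x = φ (η x) := by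
  obtain ⟨t, h1, h2, h3⟩ := exists_t hφ hr hb hΩ hab h1 h2
  have h4 : ∀ x ∈ [1, 2, 3, 4, 5, 6], ∀ y, nth [] Vo x = [y] → t * φ (η x) = φ (η y) * t := fun x hx y e => by
    rw [← mul_inv_eq_iff_eq_mul, h3 x (by clear e; revert x; decide), e, ev_single]
  have z : ∀ u : G, u • a = a → u • b = b → (∀ x ∈ [1, 2, 3, 4, 5, 6], Commute u (φ (η x))) → u = 1 :=
    fun u a1 a2 a3 => by
      obtain ⟨l, rfl⟩ := hr.ge a1
      rw [show l = 1 from Subtype.ext (cent_one l.2 ((hb l).1 a2) fun x hx => by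
        have : Commute l (η x) := hφ (by simpa only [map_mul] using (a3 x hx).eq)
        rw [η_eq (show x ∈ L by clear this; revert x; decide)] at this
        exact congrArg Subtype.val this.eq), map_one]
  have t2 : t * t = 1 := z _ (by rw [mul_smul, h1, h2]) (by rw [mul_smul, h2, h1]) fun x hx => by
    obtain ⟨y, hy, p, q⟩ := perm6 x hx
    rw [Commute, SemiconjBy, mul_assoc, h4 x hx y q, ← mul_assoc, h4 y hy x p, mul_assoc]
  have c := fix_c hφ hr hb hΩ h1 h2 hab fun y hy => by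
    obtain ⟨x, hx, p, -⟩ := perm6 y hy
    exact ⟨x, hx, (h4 x hx y p).symm⟩
  have sq : ∀ x < 64, φ (η x) * φ (η x) = 1 := fun x hx => by rw [← map_mul, η_sq x hx, map_one]
  have s2 : φ (η 9) • φ (η 9) • b = b := by rw [← mul_smul, sq 9 (by norm_num), one_smul]
  have t3 : (φ (η 9) * t) ^ 3 = 1 := z _
    (by simp only [pow_succ, pow_zero, one_mul, mul_smul, h1, c, s2, h2, fix_a hr])
    (by simp only [pow_succ, pow_zero, one_mul, mul_smul, h1, c, s2, h2, fix_a hr]) fun x hx => by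
      obtain ⟨y, hy, p, q⟩ := perm6 x hx
      refine Commute.pow_left ?_ 3
      rw [Commute, SemiconjBy, mul_assoc, h4 x hx y q, ← mul_assoc, ← map_mul, η_conj y hy x hx p, map_mul, mul_assoc]
  refine ⟨fun x => if x = 10 then t else φ (η x), ⟨?_, fun x hx => ⟨hx, ?_⟩⟩, fun r hr => ?_, fun x hx => ?_⟩
  · exact ((V9_iv.sval HH).map φ).1
  · refine eq_inv_iff_mul_eq_one.2 ?_
    show (if x = 10 then t else _) * (if x = 10 then t else _) = _
    split_ifs
    exacts [t2, sq x hx]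
  · have ti : t⁻¹ = t := inv_eq_of_mul_eq_one_right t2
    have cm : ∀ x ∈ [1, 2, 3, 4], (φ (η x) * t) ^ 2 = 1 := fun x hx => by
      rw [pow_two, mul_assoc, ← mul_assoc t, h4 x (by revert x; decide) x (by revert x; decide +kernel), mul_assoc, t2,
        mul_one, sq x (by revert x; decide)]
    rcases (show r ∈ RH ∨ r ∈ [([10], 1), ([1, 10], 1), ([2, 10], 1), ([3, 10], 1), ([4, 10], 1), ([5, 10, 6, 10], 0),
      ([10, 7, 10, 6, 5, 7, 5, 6], 0), ([9, 10], 2)] by revert r; decide +kernel) with h | h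
    · rw [ev_congr _ (γ' := fun x => φ (η x)) fun x hx => if_neg fun e : x = 10 =>
        (by simpa using (List.mem_filter.1 h).2 : 10 ∉ r.1) (e ▸ hx)]
      exact η_rel.map φ r h
    · simp only [List.mem_cons, List.not_mem_nil, or_false] at h
      rcases h with rfl | rfl | rfl | rfl | rfl | rfl | rfl | rfl <;>
        simp only [ev_cons, ev_nil, mul_one, if_true, Nat.reduceEqDiff, if_false, Nat.reduceAdd, pow_one]
      · rw [pow_two, t2]
      · exact cm 1 (by decide)
      · exact cm 2 (by decide)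
      · exact cm 3 (by decide)
      · exact cm 4 (by decide)
      · rw [← mul_assoc t, h4 6 (by decide) 5 rfl, mul_assoc, t2, mul_one, sq 5 (by norm_num)]
      · have := h3 7 (by decide)
        rw [ti] at this
        rw [← mul_assoc, ← mul_assoc, this]
        simp only [Vo, nth_eq, List.getD_cons_succ, List.getD_cons_zero, ev_cons, ev_nil, mul_one]
        calc _ = φ (η 6) * (φ (η 5) * (φ (η 7) * (φ (η 5) * (φ (η 6) * φ (η 6)) * φ (η 5)) * φ (η 7)) * φ (η 5)) *
            φ (η 6) := by group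
          _ = _ := by simp only [sq 5 (by norm_num), sq 6 (by norm_num), sq 7 (by norm_num), mul_one]
      · exact t3
  · exact if_neg (by revert x; decide)

end

/-- the generators in the Suzuki group. -/
noncomputable def VS : List (List ℕ) := apd Suz.g24V
  [[1, 2, 5, 64, 1, 6, 64, 67, 6, 4, 1, 64], [69, 64, 7, 64, 67, 7, 6, 65, 4, 66, 2, 6, 67, 65]]

theorem VS_sub : allL VS (fun w => subB w Suz.M) = true := by decide +kernel

theorem cl_VS : cl (sv (gp Suz.nets) VS) [1, 2, 3, 4, 5, 6, 7, 8, 9, 10] = cl (gp Suz.nets) Suz.L :=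
  le_antisymm (cl_le.2 fun x _ => sv_mem (fun _ => Suz.mem_M) VS_sub x) (cl_le.2 fun x hx => by
    obtain ⟨u, -, a, b⟩ : ∃ u ∈ [[2], [3, 4, 8, 6, 4, 1, 8, 5, 8, 4, 6, 8, 4, 3], [1, 8],
        [4, 7, 6, 4, 5, 3, 6, 8, 4, 5, 8, 6, 2, 4], [4, 8, 4, 5, 7, 6, 3, 8, 5, 4, 8, 2, 4], [2, 8],
        [1, 10, 7, 8, 10, 8]], subB u [1, 2, 3, 4, 5, 6, 7, 8, 9, 10] = true ∧
        seqP Suz.tb0 [0, 1, 417, 1467, 1468] Suz.M VS u [x] = true := by revert x; decide +kernel
    rw [← ev_single (gp Suz.nets), ← seq_eq Suz.base Suz.tb0_ok (fun _ => Suz.mem_M) VS_sub b]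
    exact ev_mem fun y hy => mem_cl (sub_of_subB a y hy))

theorem main {G Ω : Type*} [Group G] [Finite G] [MulAction G Ω] [IsPretransitive G Ω] [Fintype Ω]
    (hΩ : Fintype.card Ω = 1782) {a b c : Ω} (e : HH ≃* stabilizer G a)
    (hb : (orbit (stabilizer G a) b).ncard = 416) (hc : (orbit (stabilizer G a) c).ncard = 1365) :
    Nonempty (G ≃* cl (gp Suz.nets) Suz.L) := by
  have h3 := orbit_cases (a := a) (fun _ h => h) hb hc (by norm_num) (by norm_num) (by norm_num) hΩ
  have cA : Nat.card (stabilizer G a) = 251596800 := (Nat.card_congr e.toEquiv).symm.trans card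
  have cb := Golay.card_eq_orbit_mul (stabilizer G a) b
  have cc := Golay.card_eq_orbit_mul (stabilizer G a) c
  rw [cA, hb] at cb
  rw [cA, hc] at cc
  have hab : b ≠ a := fun h => by rw [h, inf_idem, cA] at cb; omega
  obtain ⟨t, h1, h2⟩ := exists_swap h3 hab (by omega)
  obtain ⟨g, hg⟩ := conj_K (K := (stabilizer (stabilizer G a) b).comap e.toMonoidHom) (by
    rw [index_comap_of_surjective _ e.surjective, index_stabilizer, hb])
  let φ : HH →* G := (stabilizer G a).subtype.comp ((MulAut.conj g).trans e).toMonoidHom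
  have hφ : Function.Injective φ := (subtype_injective _).comp (MulEquiv.injective _)
  have hr : φ.range = stabilizer G a := by
    rw [MonoidHom.range_comp, MonoidHom.range_eq_top.2 (MulEquiv.surjective _), ← MonoidHom.range_eq_map, range_subtype]
  obtain ⟨γ, g1, g2, g3⟩ := exists_rels hφ hr hg (fun x => (h3 x).imp_right (Or.imp_right fun h => by
    rw [card_stab_of_mem h]; omega)) hab h1 h2
  have d1 : IvOK (sv (gp Suz.nets) VS) iv := siv Suz.base Suz.tb0_ok (fun _ => Suz.mem_M) VS_sub (by decide +kernel)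
  have d2 : Rels (sv (gp Suz.nets) VS) Suz3.T0_R :=
    srels Suz.base Suz.tb0_ok (fun _ => Suz.mem_M) VS_sub (by decide +kernel)
  have p1 := d1.prod g1
  have p2 := d2.prod g2
  obtain ⟨f1, o1⟩ := ord _ _ p1 (p2.mono (by decide +kernel))
  obtain ⟨f2, o2⟩ := Suz3.T0_idx.card_le (cl (fun x => (sv (gp Suz.nets) VS x, γ x)) L) p1 (p2.append (Rels.nil _))
    (fun w hw => by
      obtain ⟨x, hx, rfl⟩ := List.mem_map.1 hw
      rw [ev_single]
      rcases (show x ∈ L ∨ x = 9 by revert x; decide) with h | rfl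
      · exact mem_cl h
      · have := p2 ([9, 4, 6, 5, 4, 8, 4, 6, 8, 5, 7, 4, 8, 2], 0) (by decide +kernel)
        rw [ev_cons, zero_add, pow_one, mul_eq_one_iff_eq_inv] at this
        rw [this]
        exact inv_mem (ev_mem fun y hy => mem_cl (by clear this; revert y; decide)))
  have hA : stabilizer G a ≤ cl γ [1, 2, 3, 4, 5, 6, 7, 8, 9, 10] := by
    rw [← hr, MonoidHom.range_eq_map, ← cl_sval_top, cl_map]
    refine cl_le.2 fun x hx => ?_
    rw [show sval _ _ x = η x from Subtype.ext ((coe_sval (mem_cl hx)).trans (congrArg Subtype.val (η_eq hx)).symm),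
      ← g3 x hx]
    exact mem_cl (by revert x; decide)
  obtain ⟨f, hf⟩ := hom_of_small (m := 3) (o2.trans (by rw [cl_VS, Suz.card]; omega)) fun N _ n1 n2 => by
    have n3 : N ≤ φ.range := fun n hn => hr.ge <| by
      rcases h3 (n • a) with h | h | h
      · exact h
      · have := fix_of_small (fun _ h => h) (fun g hg => n2 g (hA hg)) hn h; omega
      · have := fix_of_small (fun _ h => h) (fun g hg => n2 g (hA hg)) hn h; omega
    have := simple
    rw [← map_comap_eq_self n3]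
    rcases (show (N.comap φ).Normal from ⟨fun n hn g => by
      simpa only [mem_comap, map_mul, map_inv] using n2 _ (hA (hr.le ⟨g, rfl⟩)) _ hn⟩).eq_bot_or_eq_top with h | h
    · rw [h, Subgroup.map_bot]
    · have := card_map_of_injective (K := N.comap φ) hφ
      rw [map_comap_eq_self n3, h, card_top, card] at this
      omega
  have hi := inj_of_simple (cl_VS ▸ Suz.simple) (f := f) (g := ⟨_, mem_cl (x := 5) (by decide)⟩) (by
    rw [hf 5 (by decide), g3 5 (by decide), η_eq (by decide), Ne, map_eq_one_iff _ hφ]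
    exact fun h => mv5 (by rw [show gp nets 5 = 1 from congrArg Subtype.val h]; rfl))
  obtain ⟨k⟩ := Golay.nonempty_equiv_of_injective f hi (by
    rw [cl_VS, Suz.card, ← (stabilizer G a).card_mul_index, cA, index_stabilizer_of_transitive,
      Nat.card_eq_fintype_card, hΩ])
  exact ⟨k.symm.trans (MulEquiv.subgroupCongr cl_VS)⟩

end Cfsg.Lib.Rk3.G24
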